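import Cfsg.Prelude.Def_PLocal
import Cfsg.Agent.Core.Basics

/-!
Basic facts on elementary abelian subgroups, the Thompson subgroup generated by those of largest
order, and the subgroup generated by the elements of order dividing `p`.
-/

namespace Cfsg.Agent.Thompson

open Subgroup

variable {G : Type*} [Group G] {G' : Type*} [Group G'] {p : ℕ}

/-! ### Elementary abelian subgroups -/

theorem ea_iff {A : Subgroup G} : Cfsg.IsElementaryAbelian p A ↔
    A ≤ centralizer (A : Set G) ∧ ∀ a ∈ A, a ^ p = 1 := by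
  rw [Cfsg.IsElementaryAbelian, le_centralizer_iff_isMulCommutative]

theorem ea_bot : Cfsg.IsElementaryAbelian p (⊥ : Subgroup G) :=
  ea_iff.2 ⟨bot_le, fun a ha => by rw [mem_bot.1 ha, one_pow]⟩

theorem ea_mono {A B : Subgroup G} (hB : Cfsg.IsElementaryAbelian p B) (h : A ≤ B) :
    Cfsg.IsElementaryAbelian p A :=
  ea_iff.2 ⟨(h.trans (ea_iff.1 hB).1).trans (centralizer_le h), fun a ha => hB.2 a (h ha)⟩

theorem ea_map {A : Subgroup G} (hA : Cfsg.IsElementaryAbelian p A) (f : G →* G') :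
    Cfsg.IsElementaryAbelian p (A.map f) := by
  refine ea_iff.2 ⟨?_, ?_⟩
  · rintro _ ⟨a, ha, rfl⟩
    rw [mem_centralizer_iff]
    rintro _ ⟨b, hb, rfl⟩
    rw [← map_mul, ← map_mul]
    exact congrArg f (mem_centralizer_iff.1 ((ea_iff.1 hA).1 ha) b hb)
  · rintro _ ⟨a, ha, rfl⟩
    rw [← map_pow, hA.2 a ha, map_one]

theorem ea_map_iff {A : Subgroup G} {f : G →* G'} (hf : Function.Injective f) :
    Cfsg.IsElementaryAbelian p (A.map f) ↔ Cfsg.IsElementaryAbelian p A := by
  refine ⟨fun h => ea_iff.2 ⟨fun a ha => mem_centralizer_iff.2 fun b hb => hf ?_, fun a ha => hf ?_⟩,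
    fun h => ea_map h f⟩
  · simpa using mem_centralizer_iff.1 ((ea_iff.1 h).1 (mem_map_of_mem f ha)) _ (mem_map_of_mem f hb)
  · simpa using h.2 _ (mem_map_of_mem f ha)

theorem ea_isPGroup {A : Subgroup G} (hA : Cfsg.IsElementaryAbelian p A) : IsPGroup p A :=
  fun a => ⟨1, Subtype.ext (by simpa using hA.2 _ a.2)⟩

theorem ea_zpowers {x : G} (hx : x ^ p = 1) : Cfsg.IsElementaryAbelian p (zpowers x) := by
  refine ea_iff.2 ⟨le_centralizer (zpowers x), fun a ha => ?_⟩
  obtain ⟨k, rfl⟩ := mem_zpowers_iff.1 ha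
  rw [← zpow_natCast, ← zpow_mul, mul_comm, zpow_mul, zpow_natCast, hx, one_zpow]

/-- The elements of order dividing `p` of a set of commuting elements generate an elementary
abelian subgroup. -/
theorem ea_closure {S : Set G} (hc : S ⊆ centralizer S) (hp : ∀ x ∈ S, x ^ p = 1) :
    Cfsg.IsElementaryAbelian p (closure S) := by
  have hcc : closure S ≤ centralizer (closure S : Set G) := by
    rw [centralizer_closure, closure_le]; exact hc
  refine ea_iff.2 ⟨hcc, fun a ha => ?_⟩
  induction ha using closure_induction with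
  | mem x hx => exact hp x hx
  | one => exact one_pow p
  | mul x y hx hy ihx ihy =>
    have : Commute x y := (mem_centralizer_iff.1 (hcc hy) x hx)
    rw [this.mul_pow, ihx, ihy, mul_one]
  | inv x hx ihx => rw [inv_pow, ihx, inv_one]

theorem ea_sup {A B : Subgroup G} (hA : Cfsg.IsElementaryAbelian p A)
    (hB : Cfsg.IsElementaryAbelian p B) (hAB : A ≤ centralizer (B : Set G)) :
    Cfsg.IsElementaryAbelian p (A ⊔ B) := by
  rw [sup_eq_closure A B]
  refine ea_closure ?_ ?_
  · rintro x (hx | hx) <;> refine mem_centralizer_iff.2 ?_ <;> rintro y (hy | hy)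
    · exact mem_centralizer_iff.1 ((ea_iff.1 hA).1 hx) y hy
    · exact mem_centralizer_iff.1 (hAB hx) y hy
    · exact mem_centralizer_iff.1 (le_centralizer_iff.1 hAB hx) y hy
    · exact mem_centralizer_iff.1 ((ea_iff.1 hB).1 hx) y hy
  · rintro x (hx | hx)
    · exact hA.2 x hx
    · exact hB.2 x hx

/-! ### Elementary abelian subgroups of largest order and the Thompson subgroup -/

theorem exists_maxEA (p : ℕ) (G : Type*) [Group G] [Finite G] :
    (Cfsg.maxElementaryAbelianSubgroups p G).Nonempty := by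
  have hne : {A : Subgroup G | Cfsg.IsElementaryAbelian p A}.Nonempty := ⟨⊥, ea_bot⟩
  obtain ⟨A, hA, hmax⟩ := Set.exists_max_image _ (fun A : Subgroup G => Nat.card A)
    (Set.toFinite _) hne
  exact ⟨A, hA, fun B hB => hmax B hB⟩

theorem maxEA_card_eq {A B : Subgroup G} (hA : A ∈ Cfsg.maxElementaryAbelianSubgroups p G)
    (hB : B ∈ Cfsg.maxElementaryAbelianSubgroups p G) : Nat.card A = Nat.card B :=
  le_antisymm (hB.2 A hA.1) (hA.2 B hB.1)

theorem le_thompson {A : Subgroup G} (hA : A ∈ Cfsg.maxElementaryAbelianSubgroups p G) :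
    A ≤ Cfsg.thompsonSubgroup p G := le_sSup hA

theorem maxEA_map_equiv (e : G ≃* G') {A : Subgroup G}
    (hA : A ∈ Cfsg.maxElementaryAbelianSubgroups p G) :
    A.map e.toMonoidHom ∈ Cfsg.maxElementaryAbelianSubgroups p G' := by
  refine ⟨ea_map hA.1 _, fun B hB => ?_⟩
  have h1 := hA.2 _ (ea_map hB e.symm.toMonoidHom)
  rw [card_map_of_injective e.symm.injective] at h1
  rwa [card_map_of_injective e.injective]

theorem map_thompson (e : G ≃* G') :
    (Cfsg.thompsonSubgroup p G).map e.toMonoidHom = Cfsg.thompsonSubgroup p G' := by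
  have key : ∀ {H H' : Type _} [Group H] [Group H'] (f : H ≃* H'),
      (Cfsg.thompsonSubgroup p H).map f.toMonoidHom ≤ Cfsg.thompsonSubgroup p H' := by
    intro H H' _ _ f
    rw [map_le_iff_le_comap]
    exact sSup_le fun A hA => map_le_iff_le_comap.1 (le_thompson (maxEA_map_equiv f hA))
  refine le_antisymm (key e) fun x hx => ?_
  have : (Cfsg.thompsonSubgroup p G').map e.symm.toMonoidHom ≤ Cfsg.thompsonSubgroup p G := by
    rw [map_le_iff_le_comap]
    exact sSup_le fun A hA => map_le_iff_le_comap.1 (le_thompson (maxEA_map_equiv e.symm hA))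
  exact ⟨e.symm x, this (mem_map_of_mem _ hx), e.apply_symm_apply x⟩

instance thompson_characteristic (p : ℕ) (G : Type*) [Group G] :
    (Cfsg.thompsonSubgroup p G).Characteristic :=
  characteristic_iff_map_eq.2 fun φ => map_thompson φ

theorem thompsonOf_le (p : ℕ) (U : Subgroup G) : Cfsg.thompsonSubgroupOf p U ≤ U :=
  map_subtype_le _

theorem thompsonOf_map_of_injective {f : G →* G'} (hf : Function.Injective f) (U : Subgroup G) :
    (Cfsg.thompsonSubgroupOf p U).map f = Cfsg.thompsonSubgroupOf p (U.map f) := by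
  rw [Cfsg.thompsonSubgroupOf, Cfsg.thompsonSubgroupOf, map_map,
    ← map_thompson (U.equivMapOfInjective f hf), map_map]
  rfl

/-- The members of the family of maximal elementary abelian subgroups of `U`, seen inside `G`. -/
theorem maxEA_subgroup_iff {U A : Subgroup G} (hA : A ≤ U) :
    A.subgroupOf U ∈ Cfsg.maxElementaryAbelianSubgroups p U ↔
      Cfsg.IsElementaryAbelian p A ∧
        ∀ B ≤ U, Cfsg.IsElementaryAbelian p B → Nat.card B ≤ Nat.card A := by
  have hc : Nat.card (A.subgroupOf U) = Nat.card A :=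
    Nat.card_congr (subgroupOfEquivOfLe hA).toEquiv
  have hm : (A.subgroupOf U).map U.subtype = A := by rw [subgroupOf_map_subtype, inf_of_le_left hA]
  refine ⟨fun h => ⟨hm ▸ ea_map h.1 _, fun B hB hBe => ?_⟩, fun h => ⟨?_, fun B hB => ?_⟩⟩
  · rw [← hc, ← Nat.card_congr (subgroupOfEquivOfLe hB).toEquiv]
    refine h.2 _ ((ea_map_iff U.subtype_injective).1 ?_)
    rwa [subgroupOf_map_subtype, inf_of_le_left hB]
  · exact (ea_map_iff U.subtype_injective).1 (hm.symm ▸ h.1)
  · have := h.2 _ (map_subtype_le B) (ea_map hB _)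
    rwa [card_map_of_injective U.subtype_injective, ← hc] at this

theorem le_thompsonOf {U A : Subgroup G} (hA : A ≤ U) (hea : Cfsg.IsElementaryAbelian p A)
    (hmax : ∀ B ≤ U, Cfsg.IsElementaryAbelian p B → Nat.card B ≤ Nat.card A) :
    A ≤ Cfsg.thompsonSubgroupOf p U := fun x hx =>
  ⟨⟨x, hA hx⟩, le_thompson ((maxEA_subgroup_iff hA).2 ⟨hea, hmax⟩) hx, rfl⟩

theorem thompsonOf_le_iff {U K : Subgroup G} :
    Cfsg.thompsonSubgroupOf p U ≤ K ↔ ∀ A ≤ U, Cfsg.IsElementaryAbelian p A →
      (∀ B ≤ U, Cfsg.IsElementaryAbelian p B → Nat.card B ≤ Nat.card A) → A ≤ K := by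
  refine ⟨fun h A hA hea hmax => (le_thompsonOf hA hea hmax).trans h, fun h => ?_⟩
  rw [Cfsg.thompsonSubgroupOf, map_le_iff_le_comap]
  refine sSup_le fun A hA => ?_
  have hle : A.map U.subtype ≤ U := map_subtype_le A
  have hsub : (A.map U.subtype).subgroupOf U = A :=
    comap_map_eq_self_of_injective U.subtype_injective A
  obtain ⟨h1, h2⟩ := (maxEA_subgroup_iff hle).1 (hsub.symm ▸ hA)
  exact map_le_iff_le_comap.1 (h _ hle h1 h2)

/-- If `U` contains every elementary abelian subgroup of largest order of `G`, their join is the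
Thompson subgroup of `U`. -/
theorem thompsonOf_eq_of_le [Finite G] {U : Subgroup G} (hU : Cfsg.thompsonSubgroup p G ≤ U) :
    Cfsg.thompsonSubgroupOf p U = Cfsg.thompsonSubgroup p G := by
  obtain ⟨A₀, hA₀⟩ := exists_maxEA p G
  refine le_antisymm (thompsonOf_le_iff.2 fun A _ hea hmax => ?_) (sSup_le fun A hA => ?_)
  · exact le_thompson ⟨hea, fun B hB => (hA₀.2 B hB).trans (hmax A₀ ((le_thompson hA₀).trans hU) hA₀.1)⟩
  · exact le_thompsonOf ((le_thompson hA).trans hU) hA.1 fun B _ hB => hA.2 B hB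

/-- A maximal elementary abelian subgroup of a Sylow subgroup has largest order in the group. -/
theorem maxEA_of_sylow [Finite G] [Fact p.Prime] (S : Sylow p G) {A : Subgroup G}
    (_hA : A ≤ (S : Subgroup G)) (hea : Cfsg.IsElementaryAbelian p A)
    (hmax : ∀ B ≤ (S : Subgroup G), Cfsg.IsElementaryAbelian p B → Nat.card B ≤ Nat.card A) :
    A ∈ Cfsg.maxElementaryAbelianSubgroups p G := by
  refine ⟨hea, fun B hB => ?_⟩
  obtain ⟨T, hT⟩ := (ea_isPGroup hB).exists_le_sylow
  obtain ⟨g, rfl⟩ := MulAction.exists_smul_eq G S T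
  have hT' : B.map (MulAut.conj g⁻¹).toMonoidHom ≤ (S : Subgroup G) := by
    rintro _ ⟨b, hb, rfl⟩
    have hb' := hT hb
    rw [Sylow.coe_subgroup_smul, Subgroup.mem_pointwise_smul_iff_inv_smul_mem] at hb'
    simpa using hb'
  have h1 := hmax _ hT' (ea_map hB _)
  rwa [card_map_of_injective (MulAut.conj g⁻¹).injective] at h1

theorem thompsonOf_sylow_le [Finite G] [Fact p.Prime] (S : Sylow p G) :
    Cfsg.thompsonSubgroupOf p (S : Subgroup G) ≤ Cfsg.thompsonSubgroup p G :=
  thompsonOf_le_iff.2 fun _ hA hea hmax => le_thompson (maxEA_of_sylow S hA hea hmax)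

theorem thompson_eq_iSup_sylow [Finite G] [Fact p.Prime] :
    Cfsg.thompsonSubgroup p G = ⨆ S : Sylow p G, Cfsg.thompsonSubgroupOf p (S : Subgroup G) := by
  refine le_antisymm (sSup_le fun A hA => ?_) (iSup_le thompsonOf_sylow_le)
  obtain ⟨S, hS⟩ := (ea_isPGroup hA.1).exists_le_sylow
  exact le_iSup_of_le S (le_thompsonOf hS hA.1 fun B _ hB => hA.2 B hB)

theorem mem_thompson_of_centralizes [Finite G] {x : G} (hxp : x ^ p = 1)
    (hx : x ∈ centralizer (Cfsg.thompsonSubgroup p G : Set G)) :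
    ∀ A ∈ Cfsg.maxElementaryAbelianSubgroups p G, x ∈ A := by
  intro A hA
  have hc : A ≤ centralizer (zpowers x : Set G) := by
    rw [le_centralizer_iff, zpowers_le]
    exact centralizer_le (le_thompson hA) hx
  have hle := hA.2 _ (ea_sup hA.1 (ea_zpowers hxp) hc)
  have heq : A = A ⊔ zpowers x := eq_of_le_of_card_ge le_sup_left hle
  rw [heq]
  exact le_sup_right (a := A) (mem_zpowers x)

/-! ### The subgroup generated by the elements of order dividing `p` -/

theorem omegaOne_le (p : ℕ) (H : Subgroup G) : Cfsg.omegaOne p H ≤ H :=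
  (closure_le _).2 fun _ hx => hx.1

theorem mem_omegaOne {H : Subgroup G} {x : G} (hx : x ∈ H) (hp : x ^ p = 1) :
    x ∈ Cfsg.omegaOne p H := subset_closure ⟨hx, hp⟩

theorem omegaOne_mono {H K : Subgroup G} (h : H ≤ K) : Cfsg.omegaOne p H ≤ Cfsg.omegaOne p K :=
  closure_mono fun _ hx => ⟨h hx.1, hx.2⟩

theorem omegaOne_map_of_injective {f : G →* G'} (hf : Function.Injective f) (H : Subgroup G) :
    (Cfsg.omegaOne p H).map f = Cfsg.omegaOne p (H.map f) := by
  rw [Cfsg.omegaOne, Cfsg.omegaOne, MonoidHom.map_closure]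
  congr 1
  ext y
  refine ⟨?_, ?_⟩
  · rintro ⟨x, ⟨hx, hxp⟩, rfl⟩
    exact ⟨mem_map_of_mem f hx, by rw [← map_pow, hxp, map_one]⟩
  · rintro ⟨⟨x, hx, rfl⟩, hyp⟩
    exact ⟨x, ⟨hx, hf (by rw [map_pow, hyp, map_one])⟩, rfl⟩

instance omegaOne_characteristic (p : ℕ) (H : Subgroup G) [hH : H.Characteristic] :
    (Cfsg.omegaOne p H).Characteristic :=
  characteristic_iff_map_eq.2 fun φ => by
    rw [omegaOne_map_of_injective φ.injective, characteristic_iff_map_eq.1 hH φ]

theorem omegaOne_ea {H : Subgroup G} (hH : H ≤ centralizer (H : Set G)) :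
    Cfsg.IsElementaryAbelian p (Cfsg.omegaOne p H) :=
  ea_closure
    (fun _ hx => centralizer_le (fun y (hy : y ∈ H ∧ y ^ p = 1) => hy.1) (hH hx.1))
    fun _ hx => hx.2

/-- `Ω₁(H ∩ C(H))` is elementary abelian. -/
theorem omegaOne_centre_ea (p : ℕ) (H : Subgroup G) :
    Cfsg.IsElementaryAbelian p (Cfsg.omegaOne p (H ⊓ centralizer (H : Set G))) :=
  omegaOne_ea fun _ hx => centralizer_le inf_le_left hx.2

theorem omegaCenterThompson_ea (p : ℕ) (P : Type*) [Group P] :
    Cfsg.IsElementaryAbelian p (Cfsg.omegaCenterThompson p P) :=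
  omegaOne_centre_ea p _

theorem center_eq_top_inf : Subgroup.center G = ⊤ ⊓ centralizer ((⊤ : Subgroup G) : Set G) := by
  rw [top_inf_eq, coe_top, centralizer_univ]

/-- `Ω₁(Z(P)) ≤ Ω₁(Z(J(P)))`. -/
theorem omegaCenter_le_omegaCenterThompson [Finite G] :
    Cfsg.omegaOne p (Subgroup.center G) ≤ Cfsg.omegaCenterThompson p G := by
  refine (closure_le _).2 fun x ⟨hx, hxp⟩ => ?_
  have hxc : x ∈ centralizer (Cfsg.thompsonSubgroup p G : Set G) := center_le_centralizer _ hx
  obtain ⟨A, hA⟩ := exists_maxEA p G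
  exact mem_omegaOne ⟨le_thompson hA (mem_thompson_of_centralizes hxp hxc A hA), hxc⟩ hxp

theorem omegaCenterThompson_characteristic (p : ℕ) (P : Type*) [Group P] :
    (Cfsg.omegaCenterThompson p P).Characteristic := by
  have : (centralizer (Cfsg.thompsonSubgroup p P : Set P)).Characteristic := inferInstance
  have : (Cfsg.thompsonSubgroup p P ⊓ centralizer (Cfsg.thompsonSubgroup p P : Set P)).Characteristic :=
    characteristic_iff_map_eq.2 fun φ => by
      rw [map_inf _ _ _ φ.injective, map_thompson φ, characteristic_iff_map_eq.1 this φ]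
  exact omegaOne_characteristic p _

end Cfsg.Agent.Thompson
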