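import Cfsg.Agent.Thompson.Basic
import Cfsg.Agent.Core.PCore

/-!
Stable embeddings of a p-group, the stable normal closure of `Ω₁(Z(S))`, and Sylow decomposition
of normal subgroups with p-power index over a smaller normal subgroup.
-/

namespace Cfsg.Agent.Thompson

open Subgroup
open scoped commutatorElement

section Sylow

variable {G : Type*} [Group G] [Finite G] {p : ℕ} [Fact p.Prime]

/-- For a normal `D`, the index of `D ⊓ S` in `D` is prime to `p`. -/
theorem not_dvd_relIndex_sylow (S : Sylow p G) (D : Subgroup G) [D.Normal] :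
    ¬ p ∣ (S : Subgroup G).relIndex D := by
  intro hdvd
  refine S.not_dvd_index (hdvd.trans ?_)
  have h1 := Core.card_sup_mul_card_inf (S : Subgroup G) D
  have h2 : Nat.card ((S : Subgroup G) ⊓ D : Subgroup G) * (S : Subgroup G).relIndex D = Nat.card D := by
    rw [← inf_relIndex_right, ← relIndex_bot_left, ← relIndex_bot_left,
      relIndex_mul_relIndex _ _ _ bot_le inf_le_right]
  have h3 : Nat.card (S : Subgroup G) * (S : Subgroup G).relIndex ((S : Subgroup G) ⊔ D) =
      Nat.card ((S : Subgroup G) ⊔ D : Subgroup G) := by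
    rw [← relIndex_bot_left, ← relIndex_bot_left, relIndex_mul_relIndex _ _ _ bot_le le_sup_left]
  have h4 : (S : Subgroup G).relIndex D = (S : Subgroup G).relIndex ((S : Subgroup G) ⊔ D) := by
    refine Nat.eq_of_mul_eq_mul_left (Nat.mul_pos (Nat.card_pos (α := (S : Subgroup G)))
      (Nat.card_pos (α := ((S : Subgroup G) ⊓ D : Subgroup G)))) ?_
    calc Nat.card (S : Subgroup G) * Nat.card ((S : Subgroup G) ⊓ D : Subgroup G) *
          (S : Subgroup G).relIndex D = Nat.card (S : Subgroup G) * Nat.card D := by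
            rw [mul_assoc, h2]
      _ = Nat.card (S : Subgroup G) * Nat.card ((S : Subgroup G) ⊓ D : Subgroup G) *
          (S : Subgroup G).relIndex ((S : Subgroup G) ⊔ D) := by rw [← h1, ← h3]; ring
  rw [h4]
  exact relIndex_dvd_index_of_le le_sup_left

/-- If `D / C` is a p-group then `D = C (D ⊓ S)` for every Sylow subgroup `S`. -/
theorem exists_mul_of_relIndex (S : Sylow p G) {C D : Subgroup G} [C.Normal] [D.Normal]
    (hCD : C ≤ D) {k : ℕ} (hk : C.relIndex D = p ^ k) {d : G} (hd : d ∈ D) :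
    ∃ c ∈ C, ∃ s ∈ D ⊓ (S : Subgroup G), d = c * s := by
  set M := C ⊔ (D ⊓ (S : Subgroup G)) with hM
  have hMD : M ≤ D := sup_le hCD inf_le_left
  have h1 : M.relIndex D ∣ p ^ k := hk ▸ relIndex_dvd_of_le_left D le_sup_left
  have h2 : M.relIndex D ∣ (S : Subgroup G).relIndex D := by
    refine dvd_trans (relIndex_dvd_of_le_left D (le_sup_right : D ⊓ (S : Subgroup G) ≤ M)) ?_
    rw [inf_comm, inf_relIndex_right]
  obtain ⟨j, -, hj⟩ := (Nat.dvd_prime_pow (Fact.out : p.Prime)).1 h1
  have hj0 : j = 0 := by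
    by_contra hne
    exact not_dvd_relIndex_sylow S D (dvd_trans (dvd_pow_self p hne) (hj ▸ h2))
  rw [hj0, pow_zero, relIndex_eq_one] at hj
  have hd' : d ∈ (↑(C ⊔ (D ⊓ (S : Subgroup G))) : Set G) := hj hd
  rw [normal_mul] at hd'
  obtain ⟨c, hc, s, hs, rfl⟩ := hd'
  exact ⟨c, hc, s, hs, rfl⟩

end Sylow

section Quadratic

variable {G : Type*} [Group G] {p : ℕ}

/-- Elements congruent modulo the centraliser of a normal subgroup `V` have the same commutator
with each element of `V`. -/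
theorem commutatorElement_eq_of_mk_eq {V : Subgroup G} [V.Normal] {a b v : G} (hv : v ∈ V)
    (h : (QuotientGroup.mk a : G ⧸ centralizer (V : Set G)) = QuotientGroup.mk b) :
    ⁅v, a⁆ = ⁅v, b⁆ := by
  have hc : b * a⁻¹ ∈ centralizer (V : Set G) := by
    rw [← QuotientGroup.eq_one_iff, QuotientGroup.mk_mul, QuotientGroup.mk_inv, h, mul_inv_cancel]
  set c := b * a⁻¹ with hcdef
  have hb : b = c * a := by rw [hcdef, inv_mul_cancel_right]
  have hvc : v * c = c * v := mem_centralizer_iff.1 hc v hv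
  have hw : v * a * v⁻¹ * a⁻¹ ∈ V := by
    have := (inferInstance : V.Normal).conj_mem v⁻¹ (inv_mem hv) a
    simpa [mul_assoc] using mul_mem hv this
  have hwc := mem_centralizer_iff.1 hc _ hw
  rw [hb, commutatorElement_def, commutatorElement_def]
  calc v * a * v⁻¹ * a⁻¹ = v * a * v⁻¹ * a⁻¹ * c * c⁻¹ := by rw [mul_inv_cancel_right]
    _ = c * v * a * v⁻¹ * a⁻¹ * c⁻¹ := by rw [hwc]; group
    _ = v * c * a * v⁻¹ * a⁻¹ * c⁻¹ := by rw [hvc]
    _ = v * (c * a) * v⁻¹ * (c * a)⁻¹ := by group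

/-- Quadratic action depends only on the image modulo the centraliser. -/
theorem quadratic_of_mk_eq {V : Subgroup G} [V.Normal] {a b : G}
    (h : (QuotientGroup.mk a : G ⧸ centralizer (V : Set G)) = QuotientGroup.mk b)
    (ha : ⁅⁅V, zpowers a⁆, zpowers a⁆ = ⊥) : ⁅⁅V, zpowers b⁆, zpowers b⁆ = ⊥ := by
  have key : ∀ {U : Subgroup G}, U ≤ V → ⁅U, zpowers b⁆ ≤ ⁅U, zpowers a⁆ := by
    intro U hU
    rw [commutator_le]
    intro v hv y hy
    obtain ⟨i, rfl⟩ := mem_zpowers_iff.1 hy
    have hi : (QuotientGroup.mk (a ^ i) : G ⧸ centralizer (V : Set G)) = QuotientGroup.mk (b ^ i) := by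
      rw [QuotientGroup.mk_zpow, QuotientGroup.mk_zpow, h]
    rw [← commutatorElement_eq_of_mk_eq (hU hv) hi]
    exact commutator_mem_commutator hv (zpow_mem_zpowers a i)
  refine le_bot_iff.1 ((key (commutator_le_left _ _)).trans ?_)
  rw [← ha]
  exact commutator_mono (key le_rfl) le_rfl

theorem quadratic_map {G' : Type*} [Group G'] {V : Subgroup G} {a : G} (f : G →* G')
    (ha : ⁅⁅V, zpowers a⁆, zpowers a⁆ = ⊥) :
    ⁅⁅V.map f, zpowers (f a)⁆, zpowers (f a)⁆ = ⊥ := by
  rw [← MonoidHom.map_zpowers, ← map_commutator, ← map_commutator, ha, Subgroup.map_bot]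

theorem quadratic_of_map {G' : Type*} [Group G'] {V : Subgroup G} {a : G} {f : G →* G'}
    (hf : Function.Injective f) (ha : ⁅⁅V.map f, zpowers (f a)⁆, zpowers (f a)⁆ = ⊥) :
    ⁅⁅V, zpowers a⁆, zpowers a⁆ = ⊥ := by
  rw [← MonoidHom.map_zpowers, ← map_commutator, ← map_commutator] at ha
  exact map_injective hf (ha.trans (Subgroup.map_bot f).symm)

/-- If the action on `V` is p-stable, a quadratic element lies in a normal subgroup in which the
centraliser of `V` has p-power index. -/
theorem exists_relIndex_of_isPStableOn [Finite G] [Fact p.Prime] {V : Subgroup G} [V.Normal]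
    (h : Cfsg.IsPStableOn p V) {a : G} (ha : ⁅⁅V, zpowers a⁆, zpowers a⁆ = ⊥) :
    ∃ D : Subgroup G, D.Normal ∧ centralizer (V : Set G) ≤ D ∧
      (∃ k, (centralizer (V : Set G)).relIndex D = p ^ k) ∧ a ∈ D := by
  refine ⟨(Cfsg.pCore p (G ⧸ centralizer (V : Set G))).comap (QuotientGroup.mk' _),
    Normal.comap Core.pCore_normal _, fun x hx => ?_, ?_, h a ha⟩
  · show QuotientGroup.mk' _ x ∈ Cfsg.pCore p _
    rw [(QuotientGroup.eq_one_iff x).2 hx |> fun e => (show QuotientGroup.mk' _ x = 1 from e)]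
    exact one_mem _
  · obtain ⟨k, hk⟩ := IsPGroup.iff_card.1 (Core.pCore_isPGroup (p := p)
      (G := G ⧸ centralizer (V : Set G)))
    refine ⟨k, ?_⟩
    rw [← hk, ← relIndex_bot_left,
      ← map_comap_eq_self_of_surjective (QuotientGroup.mk'_surjective _) (Cfsg.pCore p _),
      ← relIndex_comap, MonoidHom.comap_bot, QuotientGroup.ker_mk',
      map_comap_eq_self_of_surjective (QuotientGroup.mk'_surjective _)]

end Quadratic

section Closure

universe u

variable {p : ℕ} {G : Type*} [Group G] {G' : Type*} [Group G']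

theorem map_centre_of_injective {f : G →* G'} (hf : Function.Injective f) (J : Subgroup G) :
    (J ⊓ centralizer (J : Set G)).map f = J.map f ⊓ centralizer ((J.map f : Subgroup G') : Set G') := by
  ext y
  constructor
  · rintro ⟨x, ⟨hx, hxc⟩, rfl⟩
    refine ⟨mem_map_of_mem f hx, mem_centralizer_iff.2 ?_⟩
    rintro _ ⟨j, hj, rfl⟩
    rw [← map_mul, ← map_mul, mem_centralizer_iff.1 hxc j hj]
  · rintro ⟨⟨x, hx, rfl⟩, hxc⟩
    refine ⟨x, ⟨hx, mem_centralizer_iff.2 fun j hj => hf ?_⟩, rfl⟩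
    rw [map_mul, map_mul, mem_centralizer_iff.1 hxc _ (mem_map_of_mem f hj)]

theorem omegaCenterThompson_map {f : G →* G'} (hf : Function.Injective f) :
    (Cfsg.omegaCenterThompson p G).map f =
      Cfsg.omegaOne p ((Cfsg.thompsonSubgroup p G).map f ⊓
        centralizer (((Cfsg.thompsonSubgroup p G).map f : Subgroup G') : Set G')) := by
  rw [← map_centre_of_injective hf, ← omegaOne_map_of_injective hf]
  rfl

theorem map_omegaCenterThompson (e : G ≃* G') :
    (Cfsg.omegaCenterThompson p G).map e.toMonoidHom = Cfsg.omegaCenterThompson p G' := by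
  rw [omegaCenterThompson_map e.injective, map_thompson e]
  rfl

theorem map_conj_eq_self {M : Subgroup G} [M.Normal] (g : G) :
    M.map (MulAut.conj g).toMonoidHom = M := by
  refine le_antisymm ?_ fun x hx => ⟨g⁻¹ * x * g, ?_, by simp [mul_assoc]⟩
  · rintro _ ⟨x, hx, rfl⟩
    exact (inferInstance : M.Normal).conj_mem x hx g
  · simpa using (inferInstance : M.Normal).conj_mem x hx g⁻¹

theorem omegaCenter_normal (M : Subgroup G) [M.Normal] :
    (Cfsg.omegaOne p (M ⊓ centralizer (M : Set G))).Normal := by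
  refine ⟨fun x hx g => ?_⟩
  have h1 := mem_map_of_mem (MulAut.conj g).toMonoidHom hx
  have h2 : (Cfsg.omegaOne p (M ⊓ centralizer (M : Set G))).map (MulAut.conj g).toMonoidHom =
      Cfsg.omegaOne p (M ⊓ centralizer (M : Set G)) := by
    rw [omegaOne_map_of_injective (MulAut.conj g).injective,
      map_centre_of_injective (MulAut.conj g).injective, map_conj_eq_self g]
  rw [h2] at h1
  exact h1

theorem omegaCenterThompson_normal_map {f : G →* G'} (hf : Function.Injective f)
    (hJ : ((Cfsg.thompsonSubgroup p G).map f).Normal) :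
    ((Cfsg.omegaCenterThompson p G).map f).Normal := by
  rw [omegaCenterThompson_map hf]
  exact omegaCenter_normal _

theorem stableNormalClosure_le_omegaCenterThompson (p : ℕ) (S : Type u) [Group S] [Finite S] :
    Cfsg.stableNormalClosure p S ≤ Cfsg.omegaCenterThompson p S :=
  sInf_le ⟨omegaCenter_le_omegaCenterThompson, fun _H _ _τ hτ =>
    omegaCenterThompson_normal_map hτ.1 hτ.2.2.2.2.1⟩

theorem omegaCenter_le_stableNormalClosure (p : ℕ) (S : Type u) [Group S] :
    Cfsg.omegaOne p (Subgroup.center S) ≤ Cfsg.stableNormalClosure p S :=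
  le_sInf fun _ hW => hW.1

theorem stableNormalClosure_map_normal {S H : Type u} [Group S] [Finite S] [Group H] {τ : S →* H}
    (hτ : Cfsg.IsStableEmbedding p τ) : ((Cfsg.stableNormalClosure p S).map τ).Normal := by
  refine ⟨?_⟩
  rintro _ ⟨x, hx, rfl⟩ g
  obtain ⟨w₀, -, hw₀⟩ := (omegaCenterThompson_normal_map (p := p) hτ.1 hτ.2.2.2.2.1).conj_mem _
    (mem_map_of_mem τ (stableNormalClosure_le_omegaCenterThompson p S hx)) g
  refine ⟨w₀, mem_sInf.2 fun W hW => ?_, hw₀⟩
  obtain ⟨w, hw, hw'⟩ := (hW.2 H τ hτ).conj_mem _ (mem_map_of_mem τ (mem_sInf.1 hx W hW)) g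
  rwa [hτ.1 (hw₀.trans hw'.symm)]

theorem isStableEmbedding_comp {S S' H : Type u} [Group S] [Group S'] [Group H] (η : S ≃* S')
    {τ : S' →* H} (hτ : Cfsg.IsStableEmbedding p τ) :
    Cfsg.IsStableEmbedding p (τ.comp η.toMonoidHom) := by
  obtain ⟨h1, h2, ⟨P, hP⟩, h4, h5, h6⟩ := hτ
  refine ⟨h1.comp η.injective, h2, ⟨P, ?_⟩, h4, ?_, ?_⟩
  · rw [hP, MonoidHom.range_comp, (MonoidHom.range_eq_top (f := η.toMonoidHom)).2 η.surjective, ← MonoidHom.range_eq_map]
  · rw [← map_map, map_thompson η]; exact h5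
  · intro V _ hV
    rw [← map_map, map_omegaCenterThompson η] at hV
    exact h6 V hV

theorem map_stableNormalClosure_le {S S' : Type u} [Group S] [Group S'] (η : S ≃* S') :
    (Cfsg.stableNormalClosure p S).map η.toMonoidHom ≤ Cfsg.stableNormalClosure p S' := by
  refine le_sInf fun W hW => map_le_iff_le_comap.2 (sInf_le ⟨?_, fun H _ τ hτ => ?_⟩)
  · refine (closure_le _).2 fun x ⟨hx, hxp⟩ => hW.1 (mem_omegaOne ?_ ?_)
    · exact mem_center_iff.2 fun g => by
        have := congrArg η (mem_center_iff.1 hx (η.symm g))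
        simpa using this
    · show η x ^ p = 1
      rw [← map_pow, hxp, map_one]
  · have h := hW.2 H (τ.comp η.symm.toMonoidHom) (isStableEmbedding_comp η.symm hτ)
    rwa [← map_map, ← comap_equiv_eq_map_symm'] at h

theorem map_stableNormalClosure {S S' : Type u} [Group S] [Group S'] (η : S ≃* S') :
    (Cfsg.stableNormalClosure p S).map η.toMonoidHom = Cfsg.stableNormalClosure p S' := by
  refine le_antisymm (map_stableNormalClosure_le η) fun x hx =>
    ⟨η.symm x, map_stableNormalClosure_le η.symm (mem_map_of_mem η.symm.toMonoidHom hx),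
      η.apply_symm_apply x⟩

/-- An element acting quadratically on the stable normal closure centralises it. -/
theorem stableNormalClosure_quadratic_le_centralizer {S : Type u} [Group S] [Finite S]
    [Fact p.Prime] :
    Cfsg.stableNormalClosure p S ≤ centralizer
      {q : S | ⁅⁅Cfsg.stableNormalClosure p S, zpowers q⁆, zpowers q⁆ = ⊥} := by
  set W := Cfsg.stableNormalClosure p S with hW
  set Q : Set S := {q : S | ⁅⁅W, zpowers q⁆, zpowers q⁆ = ⊥} with hQ
  suffices h : W ≤ W ⊓ centralizer Q from h.trans inf_le_right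
  refine sInf_le ⟨le_inf (omegaCenter_le_stableNormalClosure p S)
    ((omegaOne_le _ _).trans (center_le_centralizer _)), fun H _ τ hτ => ?_⟩
  haveI := hτ.2.1
  obtain ⟨P, hP⟩ := hτ.2.2.1
  haveI hWn : (W.map τ).Normal := stableNormalClosure_map_normal hτ
  have hst : Cfsg.IsPStableOn p (W.map τ) :=
    hτ.2.2.2.2.2 _ (Subgroup.map_mono (stableNormalClosure_le_omegaCenterThompson p S))
  refine ⟨?_⟩
  rintro _ ⟨t, ⟨htW, htQ⟩, rfl⟩ h
  obtain ⟨w, hw, hwe⟩ := hWn.conj_mem _ (mem_map_of_mem τ htW) h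
  refine ⟨w, ⟨hw, mem_centralizer_iff.2 fun q hq => ?_⟩, hwe⟩
  have hconj : ⁅⁅W.map τ, zpowers (MulAut.conj h⁻¹ (τ q))⁆, zpowers (MulAut.conj h⁻¹ (τ q))⁆ = ⊥ := by
    have := quadratic_map (MulAut.conj h⁻¹).toMonoidHom (quadratic_map τ hq)
    rwa [map_conj_eq_self] at this
  obtain ⟨D, hDn, hCD, ⟨k, hk⟩, haD⟩ := exists_relIndex_of_isPStableOn hst hconj
  obtain ⟨c, hc, s, hs, hcs⟩ := exists_mul_of_relIndex P hCD hk haD
  obtain ⟨y, rfl⟩ : s ∈ τ.range := hP ▸ hs.2
  have hmk : (QuotientGroup.mk (MulAut.conj h⁻¹ (τ q)) : H ⧸ centralizer ((W.map τ : Subgroup H) : Set H))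
      = QuotientGroup.mk (τ y) := by
    rw [hcs, QuotientGroup.mk_mul, (QuotientGroup.eq_one_iff c).2 hc, one_mul]
  have hy : y ∈ Q := quadratic_of_map hτ.1 (quadratic_of_mk_eq hmk hconj)
  have hyt : τ t * τ y = τ y * τ t := by
    rw [← map_mul, ← map_mul, mem_centralizer_iff.1 htQ y hy]
  have hct : τ t * c = c * τ t := mem_centralizer_iff.1 hc _ (mem_map_of_mem τ htW)
  have hat : τ t * MulAut.conj h⁻¹ (τ q) = MulAut.conj h⁻¹ (τ q) * τ t := by
    rw [hcs, ← mul_assoc, hct, mul_assoc, hyt, mul_assoc]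
  have := congrArg (MulAut.conj h) hat
  rw [map_mul, map_mul, ← MulAut.mul_apply, ← map_mul, mul_inv_cancel, map_one, MulAut.one_apply,
    MulAut.conj_apply, ← hwe, ← map_mul, ← map_mul] at this
  exact hτ.1 this.symm

end Closure

end Cfsg.Agent.Thompson
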