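import Cfsg.Agent.Thompson.Basic
import Cfsg.Agent.S0606
import Mathlib.GroupTheory.Nilpotent

/-!
The replacement theorem: for a maximal elementary abelian subgroup `A` and a normal elementary
abelian subgroup `V` the subgroup `A ⊓ C([V, A])` attains the best-offender bound.
-/

namespace Cfsg.Agent.Thompson

open Subgroup
open scoped commutatorElement

variable {G : Type*} [Group G] [Finite G] {p : ℕ}

/-- The commuting-product cardinality formula. -/
theorem card_sup_mul_card_inf_of_comm {X Y : Subgroup G} (h : X ≤ centralizer (Y : Set G)) :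
    Nat.card (X ⊔ Y : Subgroup G) * Nat.card (X ⊓ Y : Subgroup G) = Nat.card X * Nat.card Y :=
  Cfsg.Agent.S0606.card_sup_mul_card_inf_of_le_normalizer
    (h.trans (centralizer_le_normalizer _))

theorem centralizer_sup (X Y : Subgroup G) :
    centralizer ((X ⊔ Y : Subgroup G) : Set G) = centralizer X ⊓ centralizer Y := by
  refine le_antisymm (le_inf (centralizer_le (le_sup_left : X ≤ X ⊔ Y))
    (centralizer_le (le_sup_right : Y ≤ X ⊔ Y))) ?_
  rw [le_centralizer_iff, sup_le_iff, le_centralizer_iff, le_centralizer_iff (H := Y)]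
  exact ⟨inf_le_left, inf_le_right⟩

section Fix

variable [Fact p.Prime] (V : Subgroup G) [V.Normal] (hV : Cfsg.IsElementaryAbelian p V)
  {A : Subgroup G} (hA : A ∈ Cfsg.maxElementaryAbelianSubgroups p G)

/-- `B` attains the best-offender bound. -/
def Attains (V A B : Subgroup G) : Prop :=
  B ≤ A ∧ A ⊓ V ≤ B ∧ Nat.card B * Nat.card (V ⊓ centralizer (B : Set G) : Subgroup G) =
    Nat.card A * Nat.card (A ⊓ V : Subgroup G)

omit [Finite G] [Fact p.Prime] [V.Normal] in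
theorem inf_le_fix {B : Subgroup G} (hB : B ≤ A) (hA : A ≤ centralizer (A : Set G)) :
    A ⊓ V ≤ V ⊓ centralizer (B : Set G) :=
  le_inf inf_le_right ((inf_le_left.trans hA).trans (centralizer_le hB))

include hV hA

omit [Fact p.Prime] in
theorem fix_eq_inf : V ⊓ centralizer (A : Set G) = A ⊓ V := by
  refine le_antisymm (le_inf ?_ inf_le_left) (inf_le_fix V le_rfl (ea_iff.1 hA.1).1)
  have hc : Cfsg.IsElementaryAbelian p (V ⊓ centralizer (A : Set G) : Subgroup G) :=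
    ea_mono hV inf_le_left
  have hsup := hA.2 _ (ea_sup hA.1 hc (le_centralizer_iff.1 inf_le_right))
  have := eq_of_le_of_card_ge (le_sup_left : A ≤ A ⊔ (V ⊓ centralizer (A : Set G))) hsup
  exact (le_sup_right : V ⊓ centralizer (A : Set G) ≤ A ⊔ (V ⊓ centralizer (A : Set G))).trans this.ge

theorem bound {B : Subgroup G} (hB : B ≤ A) :
    Nat.card B * Nat.card (V ⊓ centralizer (B : Set G) : Subgroup G) ≤
      Nat.card A * Nat.card (A ⊓ V : Subgroup G) := by
  have := (Cfsg.Agent.S0606.result V hV A hA).1 B hB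
  rwa [fix_eq_inf V hV hA] at this

theorem attains_self : Attains V A A :=
  ⟨le_rfl, inf_le_left, by rw [fix_eq_inf V hV hA]⟩

theorem attains_inf {B₁ B₂ : Subgroup G} (h₁ : Attains V A B₁) (h₂ : Attains V A B₂) :
    Attains V A (B₁ ⊓ B₂) ∧ V ⊓ centralizer ((B₁ ⊓ B₂ : Subgroup G) : Set G) =
      (V ⊓ centralizer (B₁ : Set G)) ⊔ (V ⊓ centralizer (B₂ : Set G)) := by
  have hAc := (ea_iff.1 hA.1).1
  have hVc := (ea_iff.1 hV).1
  set c₁ := V ⊓ centralizer (B₁ : Set G) with hc₁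
  set c₂ := V ⊓ centralizer (B₂ : Set G) with hc₂
  set c := V ⊓ centralizer ((B₁ ⊓ B₂ : Subgroup G) : Set G) with hc
  have hle : c₁ ⊔ c₂ ≤ c := sup_le (le_inf inf_le_left (inf_le_right.trans (centralizer_le inf_le_left)))
    (le_inf inf_le_left (inf_le_right.trans (centralizer_le inf_le_right)))
  have hinf : c₁ ⊓ c₂ = V ⊓ centralizer ((B₁ ⊔ B₂ : Subgroup G) : Set G) := by
    rw [centralizer_sup, hc₁, hc₂, ← inf_inf_distrib_left]
  have e1 : Nat.card (B₁ ⊔ B₂ : Subgroup G) * Nat.card (B₁ ⊓ B₂ : Subgroup G) =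
      Nat.card B₁ * Nat.card B₂ :=
    card_sup_mul_card_inf_of_comm ((h₁.1.trans hAc).trans (centralizer_le h₂.1))
  have e2 : Nat.card (c₁ ⊔ c₂ : Subgroup G) * Nat.card (c₁ ⊓ c₂ : Subgroup G) =
      Nat.card c₁ * Nat.card c₂ :=
    card_sup_mul_card_inf_of_comm ((inf_le_left.trans hVc).trans (centralizer_le inf_le_left))
  set M := Nat.card A * Nat.card (A ⊓ V : Subgroup G) with hM
  have hMpos : 0 < M := Nat.mul_pos Nat.card_pos Nat.card_pos
  have b1 : Nat.card (B₁ ⊓ B₂ : Subgroup G) * Nat.card c ≤ M :=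
    bound V hV hA (inf_le_left.trans h₁.1)
  have b2 : Nat.card (B₁ ⊔ B₂ : Subgroup G) * Nat.card (c₁ ⊓ c₂ : Subgroup G) ≤ M := by
    rw [hinf]; exact bound V hV hA (sup_le h₁.1 h₂.1)
  have b3 : Nat.card (c₁ ⊔ c₂ : Subgroup G) ≤ Nat.card c := card_le_of_le hle
  have prod : (Nat.card (B₁ ⊓ B₂ : Subgroup G) * Nat.card (c₁ ⊔ c₂ : Subgroup G)) *
      (Nat.card (B₁ ⊔ B₂ : Subgroup G) * Nat.card (c₁ ⊓ c₂ : Subgroup G)) = M * M := by
    have h3 := h₁.2.2
    have h4 := h₂.2.2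
    calc _ = (Nat.card (B₁ ⊔ B₂ : Subgroup G) * Nat.card (B₁ ⊓ B₂ : Subgroup G)) *
          (Nat.card (c₁ ⊔ c₂ : Subgroup G) * Nat.card (c₁ ⊓ c₂ : Subgroup G)) := by ring
      _ = (Nat.card B₁ * Nat.card c₁) * (Nat.card B₂ * Nat.card c₂) := by rw [e1, e2]; ring
      _ = M * M := by rw [h3, h4]
  have b4 : Nat.card (B₁ ⊓ B₂ : Subgroup G) * Nat.card (c₁ ⊔ c₂ : Subgroup G) = M := by
    refine le_antisymm ((Nat.mul_le_mul_left _ b3).trans b1) ?_
    have := Nat.mul_le_mul_left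
      (Nat.card (B₁ ⊓ B₂ : Subgroup G) * Nat.card (c₁ ⊔ c₂ : Subgroup G)) b2
    rw [prod] at this
    exact Nat.le_of_mul_le_mul_right this hMpos
  have b5 : Nat.card c ≤ Nat.card (c₁ ⊔ c₂ : Subgroup G) :=
    Nat.le_of_mul_le_mul_left (b4.symm ▸ b1) Nat.card_pos
  refine ⟨⟨inf_le_left.trans h₁.1, le_inf h₁.2.1 h₂.2.1, ?_⟩, (eq_of_le_of_card_ge hle b5).symm⟩
  show Nat.card (B₁ ⊓ B₂ : Subgroup G) * Nat.card c = M
  rw [← eq_of_le_of_card_ge hle b5]
  exact b4

/-- The subgroup generated by the commutators of one element with `A`. -/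
def commSpan (A : Subgroup G) (v : G) : Subgroup G := closure ((fun a => ⁅v, a⁆) '' (A : Set G))

omit [Finite G] [Fact p.Prime] hA hV in
theorem commSpan_le {v : G} (hv : v ∈ V) : commSpan A v ≤ V := by
  rw [commSpan, closure_le]
  rintro _ ⟨a, -, rfl⟩
  exact commutator_le_left V ⊤ (commutator_mem_commutator hv (mem_top a))

omit [Fact p.Prime] in
theorem commute_key {v a b c : G} (hv : v ∈ V) (ha : a ∈ A) (hb : b ∈ A) (hc : c ∈ A)
    (h : ⁅v, a⁆⁻¹ * ⁅v, b⁆ ∈ centralizer (A : Set G)) :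
    (b⁻¹ * a) * ⁅v, c⁆ = ⁅v, c⁆ * (b⁻¹ * a) := by
  have hAc := (ea_iff.1 hA.1).1
  have hVc := (ea_iff.1 hV).1
  have hn : ∀ g x : G, x ∈ V → g * x * g⁻¹ ∈ V := fun g x hx =>
    (inferInstance : V.Normal).conj_mem x hx g
  have cc : ∀ x y : G, x ∈ V → y ∈ V → x * y = y * x := fun x y hx hy =>
    (mem_centralizer_iff.1 (hVc hy) x hx)
  have hac : a * c = c * a := mem_centralizer_iff.1 (hAc hc) a ha
  have hbc : b * c = c * b := mem_centralizer_iff.1 (hAc hc) b hb
  set P := a * v * a⁻¹ with hP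
  set Q := b * v * b⁻¹ with hQ
  set R := c * P * c⁻¹ with hR
  set S := c * Q * c⁻¹ with hS
  have hPV : P ∈ V := hn a v hv
  have hQV : Q ∈ V := hn b v hv
  have hRV : R ∈ V := hn c P hPV
  have hSV : S ∈ V := hn c Q hQV
  have hd : ⁅v, a⁆⁻¹ * ⁅v, b⁆ = P * Q⁻¹ := by
    rw [hP, hQ, commutatorElement_def, commutatorElement_def]; group
  have h1 : c * (P * Q⁻¹) = (P * Q⁻¹) * c := mem_centralizer_iff.1 (hd ▸ h) c hc
  have h2 : R * S⁻¹ = P * Q⁻¹ := by
    rw [hR, hS]
    calc c * P * c⁻¹ * (c * Q * c⁻¹)⁻¹ = c * (P * Q⁻¹) * c⁻¹ := by group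
      _ = P * Q⁻¹ * c * c⁻¹ := by rw [h1]
      _ = P * Q⁻¹ := by group
  have h3 : P * R⁻¹ = Q * S⁻¹ := by
    have hR' : R = P * Q⁻¹ * S := by rw [← h2, inv_mul_cancel_right]
    calc P * R⁻¹ = P * (S⁻¹ * (Q * P⁻¹)) := by rw [hR']; group
      _ = P * (Q * P⁻¹ * S⁻¹) := by
          rw [cc (Q * P⁻¹) S⁻¹ (V.mul_mem hQV (V.inv_mem hPV)) (V.inv_mem hSV)]
      _ = P * (P⁻¹ * Q * S⁻¹) := by rw [cc Q P⁻¹ hQV (V.inv_mem hPV)]
      _ = Q * S⁻¹ := by group
  have h4 : a * ⁅v, c⁆ * a⁻¹ = b * ⁅v, c⁆ * b⁻¹ := by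
    have e : ∀ x : G, x * c = c * x → x * ⁅v, c⁆ * x⁻¹ =
        (x * v * x⁻¹) * (c * (x * v * x⁻¹) * c⁻¹)⁻¹ := by
      intro x hx
      rw [commutatorElement_def]
      calc x * (v * c * v⁻¹ * c⁻¹) * x⁻¹ = x * v * x⁻¹ * (x * c) * v⁻¹ * (x * c)⁻¹ := by group
        _ = x * v * x⁻¹ * (c * x) * v⁻¹ * (c * x)⁻¹ := by rw [hx]
        _ = (x * v * x⁻¹) * (c * (x * v * x⁻¹) * c⁻¹)⁻¹ := by group
    rw [e a hac, e b hbc]
    exact h3
  calc b⁻¹ * a * ⁅v, c⁆ = b⁻¹ * (a * ⁅v, c⁆ * a⁻¹) * a := by group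
    _ = b⁻¹ * (b * ⁅v, c⁆ * b⁻¹) * a := by rw [h4]
    _ = ⁅v, c⁆ * (b⁻¹ * a) := by group

theorem attains_commSpan {v : G} (hv : v ∈ V) :
    Attains V A (A ⊓ centralizer (commSpan A v : Set G)) ∧
      V ⊓ centralizer ((A ⊓ centralizer (commSpan A v : Set G) : Subgroup G) : Set G) =
        commSpan A v ⊔ (A ⊓ V) := by
  classical
  have hAc := (ea_iff.1 hA.1).1
  have hVc := (ea_iff.1 hV).1
  set M := commSpan A v with hM
  set B := A ⊓ centralizer (M : Set G) with hB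
  have hMV : M ≤ V := commSpan_le V hv
  have hle : M ⊔ (A ⊓ V) ≤ V ⊓ centralizer (B : Set G) :=
    sup_le (le_inf hMV (le_centralizer_iff.1 inf_le_right)) (inf_le_fix V inf_le_left hAc)
  have hAVB : A ⊓ V ≤ B :=
    le_inf inf_le_left ((inf_le_right.trans hVc).trans (centralizer_le hMV))
  -- the quotient of `A` by `B` embeds into the quotient of `M` by its fixed points
  let K : Subgroup M := (A ⊓ V).subgroupOf M
  let f : A → M := fun a => ⟨⁅v, (a : G)⁆, subset_closure ⟨a, a.2, rfl⟩⟩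
  have hinj : Function.Injective (fun q : A ⧸ B.subgroupOf A =>
      (QuotientGroup.mk (f q.out) : M ⧸ K)) := by
    intro q r hqr
    rw [QuotientGroup.eq, Subgroup.mem_subgroupOf] at hqr
    have hd : ⁅v, (q.out : G)⁆⁻¹ * ⁅v, (r.out : G)⁆ ∈ centralizer (A : Set G) := by
      have := hqr.1
      exact hAc this
    rw [← q.out_eq, ← r.out_eq]
    refine (QuotientGroup.eq.2 ?_).symm
    rw [Subgroup.mem_subgroupOf]
    refine ⟨(((r.out)⁻¹ * q.out : A)).2, ?_⟩
    show ((r.out : G))⁻¹ * (q.out : G) ∈ centralizer (M : Set G)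
    rw [hM, commSpan, centralizer_closure, mem_centralizer_iff]
    rintro _ ⟨c, hc, rfl⟩
    exact (commute_key V hV hA hv q.out.2 r.out.2 hc hd).symm
  have hidx : B.relIndex A ≤ (A ⊓ V).relIndex M := Nat.card_le_card_of_injective _ hinj
  have hcA : Nat.card B * B.relIndex A = Nat.card A := by
    rw [← relIndex_bot_left, ← relIndex_bot_left,
      relIndex_mul_relIndex _ _ _ bot_le inf_le_left]
  have hcM : Nat.card (M ⊓ (A ⊓ V) : Subgroup G) * (A ⊓ V).relIndex M = Nat.card M := by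
    rw [← inf_relIndex_left, ← relIndex_bot_left, ← relIndex_bot_left,
      relIndex_mul_relIndex _ _ _ bot_le inf_le_left]
  have hsup : Nat.card (M ⊔ (A ⊓ V) : Subgroup G) * Nat.card (M ⊓ (A ⊓ V) : Subgroup G) =
      Nat.card M * Nat.card (A ⊓ V : Subgroup G) :=
    card_sup_mul_card_inf_of_comm ((hMV.trans hVc).trans (centralizer_le inf_le_right))
  have hge : Nat.card A * Nat.card (A ⊓ V : Subgroup G) ≤
      Nat.card B * Nat.card (M ⊔ (A ⊓ V) : Subgroup G) := by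
    have h1 : Nat.card (M ⊔ (A ⊓ V) : Subgroup G) =
        (A ⊓ V).relIndex M * Nat.card (A ⊓ V : Subgroup G) := by
      refine Nat.eq_of_mul_eq_mul_right (Nat.card_pos (α := (M ⊓ (A ⊓ V) : Subgroup G))) ?_
      rw [hsup, ← hcM]; ring
    rw [h1, ← hcA, ← mul_assoc]
    exact Nat.mul_le_mul_right _ (Nat.mul_le_mul_left _ hidx)
  have hub := bound V hV hA (inf_le_left : B ≤ A)
  have heq : M ⊔ (A ⊓ V) = V ⊓ centralizer (B : Set G) :=
    eq_of_le_of_card_ge hle (Nat.le_of_mul_le_mul_left (hub.trans hge) Nat.card_pos)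
  exact ⟨⟨inf_le_left, hAVB, le_antisymm hub (heq ▸ hge)⟩, heq.symm⟩

theorem attains_centralizer_commutator :
    Attains V A (A ⊓ centralizer ((⁅V, A⁆ : Subgroup G) : Set G)) ∧
      V ⊓ centralizer ((A ⊓ centralizer ((⁅V, A⁆ : Subgroup G) : Set G) : Subgroup G) : Set G) =
        ⁅V, A⁆ ⊔ (A ⊓ V) := by
  classical
  letI := Fintype.ofFinite V
  have key : ∀ s : Finset V,
      Attains V A (A ⊓ centralizer ((s.sup fun v : V => commSpan A (v : G) : Subgroup G) : Set G)) ∧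
        V ⊓ centralizer ((A ⊓ centralizer ((s.sup fun v : V => commSpan A (v : G) : Subgroup G) :
          Set G) : Subgroup G) : Set G) = (s.sup fun v : V => commSpan A (v : G)) ⊔ (A ⊓ V) := by
    intro s
    induction s using Finset.induction with
    | empty =>
      have hbot : A ⊓ centralizer ((⊥ : Subgroup G) : Set G) = A :=
        inf_eq_left.2 (le_centralizer_iff.1 bot_le)
      rw [Finset.sup_empty, hbot, bot_sup_eq]
      exact ⟨attains_self V hV hA, fix_eq_inf V hV hA⟩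
    | insert v s _ ih =>
      have h2 := attains_commSpan V hV hA v.2
      have hsplit : A ⊓ centralizer ((commSpan A (v : G) ⊔ s.sup fun v : V => commSpan A (v : G) :
            Subgroup G) : Set G) =
          (A ⊓ centralizer (commSpan A (v : G) : Set G)) ⊓
            (A ⊓ centralizer ((s.sup fun v : V => commSpan A (v : G) : Subgroup G) : Set G)) := by
        rw [centralizer_sup, inf_inf_distrib_left]
      rw [Finset.sup_insert, hsplit]
      obtain ⟨h3, h4⟩ := attains_inf V hV hA h2.1 ih.1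
      refine ⟨h3, ?_⟩
      rw [h4, h2.2, ih.2, sup_sup_sup_comm, sup_idem]
  have hU : ((Finset.univ : Finset V).sup fun v : V => commSpan A (v : G)) = ⁅V, A⁆ := by
    refine le_antisymm (Finset.sup_le fun v _ => ?_) (commutator_le.2 fun v hv a ha => ?_)
    · rw [commSpan, closure_le]
      rintro _ ⟨a, ha, rfl⟩
      exact commutator_mem_commutator v.2 ha
    · exact Finset.le_sup (f := fun v : V => commSpan A (v : G)) (Finset.mem_univ ⟨v, hv⟩)
        (subset_closure ⟨a, ha, rfl⟩)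
  rw [← hU]
  exact key _

end Fix

end Cfsg.Agent.Thompson
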