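import Cfsg.Agent.Thompson.Stable
import Cfsg.Agent.Thompson.Replacement
import Cfsg.Agent.S0607
import Cfsg.Agent.Layer.PConstraint

/-!
In an action-p-stable group whose `p`-core contains its centraliser the stable normal closure of a
Sylow subgroup is normal.
-/

namespace Cfsg.Agent.Thompson

open Subgroup
open scoped commutatorElement

variable {G : Type*} [Group G] {p : ℕ}

/-- A Thompson subgroup of a subgroup between `J(T)` and `T` is `J(T)`. -/
theorem thompsonOf_eq_of_le_of_le [Finite G] {U T : Subgroup G} (hUT : U ≤ T)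
    (hJ : Cfsg.thompsonSubgroupOf p T ≤ U) :
    Cfsg.thompsonSubgroupOf p U = Cfsg.thompsonSubgroupOf p T := by
  obtain ⟨A₀, hA₀⟩ := exists_maxEA p T
  have hA₀T : A₀.map T.subtype ≤ T := map_subtype_le _
  have hA₀' : (A₀.map T.subtype).subgroupOf T = A₀ :=
    comap_map_eq_self_of_injective T.subtype_injective A₀
  obtain ⟨hea₀, hmax₀⟩ := (maxEA_subgroup_iff (p := p) hA₀T).1 (hA₀'.symm ▸ hA₀)
  have hA₀U : A₀.map T.subtype ≤ U := (le_thompsonOf hA₀T hea₀ hmax₀).trans hJ
  refine le_antisymm (thompsonOf_le_iff.2 fun A hA hea hmax => ?_)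
    (thompsonOf_le_iff.2 fun A hA hea hmax => ?_)
  · exact le_thompsonOf (hA.trans hUT) hea fun B hB hBea =>
      (hmax₀ B hB hBea).trans (hmax _ hA₀U hea₀)
  · exact le_thompsonOf ((le_thompsonOf hA hea hmax).trans hJ) hea fun B hB hBea =>
      hmax B (hB.trans hUT) hBea

theorem normalizer_le_normalizer_thompsonOf (U : Subgroup G) :
    normalizer (U : Set G) ≤ normalizer (Cfsg.thompsonSubgroupOf p U : Set G) := by
  intro g hg
  rw [mem_normalizer_iff_map_conj_eq] at hg ⊢
  have := thompsonOf_map_of_injective (p := p) (f := (MulAut.conj g).toMonoidHom)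
    (MulAut.conj g).injective U
  exact this.trans (congrArg (Cfsg.thompsonSubgroupOf p) hg)

variable [Finite G] [Fact p.Prime]

/-- The kernel of the action on the Frattini quotient of `O_p(G)` is a `p`-group. -/
theorem isPGroup_sectionKernel_frattini
    (hc : centralizer (Cfsg.pCore p G : Set G) ≤ Cfsg.pCore p G)
    [((frattini ↥(Cfsg.pCore p G)).map (Cfsg.pCore p G).subtype).Normal] :
    IsPGroup p (Cfsg.sectionKernel (Cfsg.pCore p G)
      ((frattini ↥(Cfsg.pCore p G)).map (Cfsg.pCore p G).subtype)) := by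
  set F := (frattini ↥(Cfsg.pCore p G)).map (Cfsg.pCore p G).subtype with hF
  by_contra hne
  obtain ⟨q, hq, hq1, hqo⟩ := Layer.exists_coprime_orderOf hne
  have hP : IsPGroup p (Cfsg.pCore p G) := Core.pCore_isPGroup
  have hcop : (Nat.card (zpowers q)).Coprime (Nat.card (frattini ↥(Cfsg.pCore p G))) := by
    rw [Nat.card_zpowers]
    obtain ⟨k, hk⟩ := (hP.to_subgroup (frattini ↥(Cfsg.pCore p G))).exists_card_eq
    rw [hk]
    exact Nat.Coprime.pow_right _ hqo
  have hcent : zpowers q ≤ centralizer (Cfsg.pCore p G : Set G) := by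
    refine Coprime.le_centralizer_of_trivial_mod_frattini
      (le_normalizer_of_normal) hcop fun a ha k hk => ?_
    have haK : a ∈ Cfsg.sectionKernel (Cfsg.pCore p G) F := zpowers_le.2 hq ha
    have h1 := mem_centralizer_iff.1 (show QuotientGroup.mk' F a ∈ _ from haK)
      (QuotientGroup.mk' F k) (mem_map_of_mem _ hk)
    rw [← QuotientGroup.eq_one_iff]
    show QuotientGroup.mk' F (a * k * a⁻¹ * k⁻¹) = 1
    rw [map_mul, map_mul, map_mul, ← h1, map_inv, map_inv, mul_inv_cancel_right, mul_inv_cancel]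
  have hqP : q ∈ Cfsg.pCore p G := hc (hcent (mem_zpowers q))
  obtain ⟨k, hk⟩ := (hP.to_le (zpowers_le.2 hqP)).exists_card_eq
  rw [Nat.card_zpowers] at hk
  rw [hk] at hqo
  rcases Nat.eq_zero_or_pos k with rfl | hk0
  · rw [pow_zero] at hk
    exact hq1 (orderOf_eq_one_iff.1 hk)
  · have := (Nat.Coprime.coprime_dvd_left (dvd_pow_self p hk0.ne') hqo)
    exact (Fact.out : p.Prime).one_lt.ne' ((Nat.coprime_self p).1 this)

theorem stableNormalClosure_map_normal_of_actionPStable (hst : Cfsg.IsActionPStable p G)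
    (hc : centralizer (Cfsg.pCore p G : Set G) ≤ Cfsg.pCore p G) (S : Sylow p G) :
    ((Cfsg.stableNormalClosure p ↥(S : Subgroup G)).map (S : Subgroup G).subtype).Normal := by
  classical
  set W₀ := Cfsg.stableNormalClosure p ↥(S : Subgroup G) with hW₀
  set W := W₀.map (S : Subgroup G).subtype with hW
  have hWS : W ≤ (S : Subgroup G) := map_subtype_le _
  -- `W` is elementary abelian and normalised by `S`
  have hWea : Cfsg.IsElementaryAbelian p W :=
    ea_map (ea_mono (omegaCenterThompson_ea p _)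
      (stableNormalClosure_le_omegaCenterThompson p _)) _
  have hWc := (ea_iff.1 hWea).1
  haveI : W₀.Characteristic :=
    characteristic_iff_map_eq.2 fun η => map_stableNormalClosure η
  have hSW : ∀ s ∈ (S : Subgroup G), ∀ w ∈ W, s * w * s⁻¹ ∈ W := by
    rintro s hs _ ⟨w, hw, rfl⟩
    exact ⟨⟨s, hs⟩ * w * ⟨s, hs⟩⁻¹, (inferInstance : W₀.Normal).conj_mem w hw ⟨s, hs⟩, rfl⟩
  -- an element of `S` acting quadratically centralises `W`
  have hquad : ∀ y ∈ (S : Subgroup G), ⁅⁅W, zpowers y⁆, zpowers y⁆ = ⊥ →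
      ∀ w ∈ W, y * w = w * y := by
    rintro y hy h _ ⟨w, hw, rfl⟩
    have h' : (⟨y, hy⟩ : (S : Subgroup G)) ∈
        {q : (S : Subgroup G) | ⁅⁅W₀, zpowers q⁆, zpowers q⁆ = ⊥} :=
      quadratic_of_map (f := (S : Subgroup G).subtype) (S : Subgroup G).subtype_injective h
    exact congrArg Subtype.val
      (mem_centralizer_iff.1 (stableNormalClosure_quadratic_le_centralizer hw) _ h')
  set P0 := Cfsg.pCore p G with hP0
  haveI hP0n : P0.Normal := Core.pCore_normal
  have hP0S : P0 ≤ (S : Subgroup G) := Core.pCore_le_sylow S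
  -- step 1: `W ≤ O_p(G)`
  have hWP : W ≤ P0 := by
    intro x hx
    set F := (frattini ↥P0).map P0.subtype with hF
    haveI : F.Normal := ConjAct.normal_of_characteristic_of_normal
    have hq : ⁅⁅P0, zpowers x⁆, zpowers x⁆ ≤ F := by
      have hxW : zpowers x ≤ W := zpowers_le.2 hx
      have h1 : ⁅P0, zpowers x⁆ ≤ W := by
        rw [commutator_le]
        intro k hk z hz
        rw [commutatorElement_def]
        exact W.mul_mem (hSW k (hP0S hk) z (hxW hz)) (W.inv_mem (hxW hz))
      refine le_trans (commutator_mono h1 hxW) ?_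
      rw [(commutator_eq_bot_iff_le_centralizer (H₁ := W) (H₂ := W)).2 hWc]
      exact bot_le
    obtain ⟨D, hDn, hKD, ⟨k, hk⟩, hxD⟩ := hst.2.1 x hq
    obtain ⟨j, hj⟩ := (isPGroup_sectionKernel_frattini hc).exists_card_eq
    have hcard : Nat.card D = p ^ (j + k) := by
      rw [pow_add, ← hj, ← hk, ← relIndex_bot_left, ← relIndex_bot_left,
        relIndex_mul_relIndex _ _ _ bot_le hKD]
    haveI := hDn
    exact Core.le_pCore (IsPGroup.of_card hcard) hxD
  -- step 2: the normal closure `U` is elementary abelian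
  set U := Subgroup.normalClosure (W : Set G) with hU
  haveI : U.Normal := Subgroup.normalClosure_normal
  have hWU : W ≤ U := Subgroup.subset_normalClosure
  have hpair : ∀ u : G, ∀ w ∈ W, ∀ w' ∈ W, Commute w (u * w' * u⁻¹) := by
    intro u w hw w' hw'
    set W2 := W.map (MulAut.conj u).toMonoidHom with hW2
    have hW2c : W2 ≤ centralizer (W2 : Set G) := (ea_iff.1 (ea_map hWea _)).1
    set y := u * w' * u⁻¹ with hy
    have hyW2 : y ∈ W2 := ⟨w', hw', rfl⟩
    have hyP : y ∈ P0 := hP0n.conj_mem w' (hWP hw') u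
    have h1 : ⁅W, zpowers y⁆ ≤ W2 := by
      rw [commutator_le]
      intro a ha z hz
      obtain ⟨z', hz', rfl⟩ := zpowers_le.2 hyW2 hz
      rw [commutatorElement_def]
      refine W2.mul_mem ⟨(u⁻¹ * a * u) * z' * (u⁻¹ * a * u)⁻¹, ?_, ?_⟩
        (W2.inv_mem ⟨z', hz', rfl⟩)
      · refine hSW _ (hP0S ?_) z' hz'
        simpa using hP0n.conj_mem a (hWP ha) u⁻¹
      · simp only [MulEquiv.coe_toMonoidHom, MulAut.conj_apply]
        group
    have hq : ⁅⁅W, zpowers y⁆, zpowers y⁆ = ⊥ := by
      refine le_bot_iff.1 ((commutator_mono h1 (zpowers_le.2 hyW2)).trans ?_)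
      rw [(commutator_eq_bot_iff_le_centralizer (H₁ := W2) (H₂ := W2)).2 hW2c]
    exact (hquad y (hP0S hyP) hq w hw).symm
  have hUea : Cfsg.IsElementaryAbelian p U := by
    refine ea_closure ?_ ?_
    · intro a ha
      refine mem_centralizer_iff.2 fun b hb => ?_
      obtain ⟨w, hw, hwa⟩ := Group.mem_conjugatesOfSet_iff.1 ha
      obtain ⟨g, rfl⟩ := isConj_iff.1 hwa
      obtain ⟨w', hw', hwb⟩ := Group.mem_conjugatesOfSet_iff.1 hb
      obtain ⟨h, rfl⟩ := isConj_iff.1 hwb
      have hc := hpair (g⁻¹ * h) w hw w' hw'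
      calc h * w' * h⁻¹ * (g * w * g⁻¹)
          = g * (g⁻¹ * h * w' * (g⁻¹ * h)⁻¹ * w) * g⁻¹ := by group
        _ = g * (w * (g⁻¹ * h * w' * (g⁻¹ * h)⁻¹)) * g⁻¹ := by rw [hc.eq]
        _ = g * w * g⁻¹ * (h * w' * h⁻¹) := by group
    · intro a ha
      obtain ⟨w, hw, hwa⟩ := Group.mem_conjugatesOfSet_iff.1 ha
      obtain ⟨g, rfl⟩ := isConj_iff.1 hwa
      rw [conj_pow, hWea.2 w hw, mul_one, mul_inv_cancel]
  -- step 3: quadratic elements centralise `U`
  have hstU : Cfsg.IsPStableOn p U := hst.1 U hUea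
  have hquadU : ∀ a : G, ⁅⁅U, zpowers a⁆, zpowers a⁆ = ⊥ → a ∈ centralizer (U : Set G) := by
    intro a ha
    have hle : U ≤ centralizer (zpowers a : Set G) := by
      refine (closure_le _).2 fun b hb => ?_
      obtain ⟨w, hw, hwb⟩ := Group.mem_conjugatesOfSet_iff.1 hb
      obtain ⟨g, rfl⟩ := isConj_iff.1 hwb
      have hconj : ⁅⁅U, zpowers (g⁻¹ * a * g)⁆, zpowers (g⁻¹ * a * g)⁆ = ⊥ := by
        have := quadratic_map (MulAut.conj g⁻¹).toMonoidHom ha
        rw [map_conj_eq_self] at this
        simpa using this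
      obtain ⟨D, hDn, hCD, ⟨k, hk⟩, haD⟩ := exists_relIndex_of_isPStableOn hstU hconj
      obtain ⟨c, hcc, s, hs, hcs⟩ := exists_mul_of_relIndex S hCD hk haD
      have hmk : (QuotientGroup.mk (g⁻¹ * a * g) : G ⧸ centralizer (U : Set G)) =
          QuotientGroup.mk s := by
        rw [hcs, QuotientGroup.mk_mul, (QuotientGroup.eq_one_iff c).2 hcc, one_mul]
      have hqs : ⁅⁅W, zpowers s⁆, zpowers s⁆ = ⊥ :=
        le_bot_iff.1 ((commutator_mono (commutator_mono hWU le_rfl) le_rfl).trans
          (quadratic_of_mk_eq hmk hconj).le)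
      have hsw := hquad s hs.2 hqs w hw
      have hcw : c * w = w * c := (mem_centralizer_iff.1 hcc w (hWU hw)).symm
      have h1 : Commute (g⁻¹ * a * g) w := by
        rw [hcs]; exact Commute.mul_left hcw hsw
      have h2 : Commute a (g * w * g⁻¹) := by
        have := congrArg (MulAut.conj g) h1.eq
        simpa [Commute, SemiconjBy, mul_assoc] using this
      refine mem_centralizer_iff.2 fun z hz => ?_
      obtain ⟨i, rfl⟩ := mem_zpowers_iff.1 hz
      exact (h2.zpow_left i).eq
    exact le_centralizer_iff.1 hle (mem_zpowers a)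
  -- step 4: `J(S)` centralises `U`
  set C := centralizer (U : Set G) with hC
  haveI : C.Normal := normal_centralizer
  have hJC : Cfsg.thompsonSubgroupOf p (S : Subgroup G) ≤ C := by
    refine thompsonOf_le_iff.2 fun A hA hea hmax => ?_
    have hAmax := maxEA_of_sylow S hA hea hmax
    obtain ⟨-, hq2, hq3⟩ := Cfsg.Agent.S0607.result U hUea A hAmax
    set A₀ := ⁅U, A⁆ ⊔ (A ⊓ centralizer ((⁅U, A⁆ : Subgroup G) : Set G)) with hA₀
    have hA₀C : A₀ ≤ C := fun a ha => hquadU a (le_bot_iff.1
      ((commutator_mono (commutator_mono le_rfl (zpowers_le.2 ha)) (zpowers_le.2 ha)).trans hq2.le))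
    have h0 : ⁅U, A₀⁆ = ⊥ :=
      commutator_eq_bot_iff_le_centralizer.2 (le_centralizer_iff.1 hA₀C)
    have h1 : ⁅U, A⁆ = ⊥ := by
      by_contra hne
      exact hq3 hne h0
    exact le_centralizer_iff.1 (commutator_eq_bot_iff_le_centralizer.1 h1)
  -- step 5: Frattini argument
  set T := (S : Subgroup G) ⊓ C with hT
  have hTp : IsPGroup p (T.subgroupOf C) :=
    (S.isPGroup'.to_le inf_le_left).comap_of_injective _ C.subtype_injective
  have hTidx : ¬ p ∣ (T.subgroupOf C).index := by
    show ¬ p ∣ T.relIndex C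
    rw [hT, inf_relIndex_right]
    exact not_dvd_relIndex_sylow S C
  have hfr := Sylow.normalizer_sup_eq_top (hTp.toSylow hTidx)
  rw [IsPGroup.toSylow_coe, map_subgroupOf_eq_of_le inf_le_right] at hfr
  set J := Cfsg.thompsonSubgroupOf p (S : Subgroup G) with hJ
  have hTJ : Cfsg.thompsonSubgroupOf p T = J :=
    thompsonOf_eq_of_le_of_le inf_le_left (le_inf (thompsonOf_le p _) hJC)
  have hNT : normalizer (T : Set G) ≤ normalizer (J : Set G) :=
    hTJ ▸ normalizer_le_normalizer_thompsonOf T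
  -- step 6: the normaliser of `J(S)` normalises `W`
  set H := normalizer (J : Set G) with hH
  have hSH : (S : Subgroup G) ≤ H := le_trans
    (le_normalizer (H := (S : Subgroup G))) (normalizer_le_normalizer_thompsonOf _)
  let τ : ↥(S : Subgroup G) →* ↥H := Subgroup.inclusion hSH
  have hτ : Cfsg.IsStableEmbedding p τ := by
    refine ⟨Subgroup.inclusion_injective hSH, inferInstance, ⟨S.subtype hSH, ?_⟩, ?_, ?_, ?_⟩
    · rw [Sylow.coe_subtype, Subgroup.inclusion_range]
    · exact Layer.pCoreSelfCentral_normalizer hc (S.isPGroup'.to_le (thompsonOf_le p _))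
    · have e : (Cfsg.thompsonSubgroup p ↥(S : Subgroup G)).map τ = J.subgroupOf H := by
        refine map_injective H.subtype_injective ?_
        rw [map_subgroupOf_eq_of_le (le_normalizer), map_map]
        rfl
      rw [e]
      exact normal_in_normalizer
    · intro V _ hV
      refine hst.2.2 S V ((Subgroup.map_mono hV).trans ?_)
      rw [map_map]
      exact le_rfl
  haveI hWH := stableNormalClosure_map_normal hτ
  have hHW : H ≤ normalizer (W : Set G) := by
    intro g hg
    rw [mem_normalizer_iff_map_conj_eq]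
    have e : (W₀.map τ).map H.subtype = W := by rw [map_map]; rfl
    have h := map_conj_eq_self (M := W₀.map τ) (⟨g, hg⟩ : H)
    have h' := congrArg (Subgroup.map H.subtype) h
    rw [map_map, e] at h'
    conv_lhs => rw [← e, map_map]
    exact h'
  have hCW : C ≤ normalizer (W : Set G) :=
    (centralizer_le hWU).trans (centralizer_le_normalizer _)
  exact normalizer_eq_top_iff.1 (top_le_iff.1 (hfr.ge.trans (sup_le (hNT.trans hHW) hCW)))

end Cfsg.Agent.Thompson
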