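import Cfsg.Agent.Thompson.Offender.Orbit
import Cfsg.Agent.Thompson.Replacement

/-!
Abelian offenders.  Timmesfeld's replacement for an abelian `p`-group `A` meeting the offender
bound on `W`, and: if the best offenders inside `A` lie in a failure of factorization group `H`
for `p = 2` normalised by `A`, then `A` is elementary abelian.
-/

set_option autoImplicit false

namespace Cfsg.Agent.AbelianOffender

open Subgroup
open Cfsg.Agent.Offender
open scoped commutatorElement

variable {G : Type*} [Group G] [Finite G] {p : ℕ}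

/-- An abelian `p`-group, faithful on `W`, meeting the best offender bound. -/
structure AbOff (p : ℕ) (W A : Subgroup G) : Prop where
  hW : Cfsg.IsElementaryAbelian p W
  hn : A ≤ normalizer (W : Set G)
  hp : IsPGroup p A
  hc : A ≤ centralizer (A : Set G)
  hf : A ⊓ centralizer (W : Set G) = ⊥
  bound : ∀ B : Subgroup G, B ≤ A →
    Nat.card B * Nat.card (W ⊓ centralizer (B : Set G) : Subgroup G) ≤
      Nat.card A * Nat.card (W ⊓ centralizer (A : Set G) : Subgroup G)

/-- `B` attains the bound. -/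
def Reaches (W A B : Subgroup G) : Prop :=
  B ≤ A ∧ Nat.card B * Nat.card (W ⊓ centralizer (B : Set G) : Subgroup G) =
    Nat.card A * Nat.card (W ⊓ centralizer (A : Set G) : Subgroup G)

variable {W A : Subgroup G}

section Replacement

variable (h : AbOff p W A)
include h

omit [Finite G] in
theorem hWc : W ≤ centralizer (W : Set G) := (Thompson.ea_iff.1 h.hW).1

omit [Finite G] in
theorem commutator_le : ⁅W, A⁆ ≤ W := le_normalizer_iff_commutator_le_left.1 h.hn

omit [Finite G] h in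
theorem reaches_self : Reaches W A A := ⟨le_rfl, rfl⟩

theorem reaches_inf {B₁ B₂ : Subgroup G} (h₁ : Reaches W A B₁) (h₂ : Reaches W A B₂) :
    Reaches W A (B₁ ⊓ B₂) ∧ W ⊓ centralizer ((B₁ ⊓ B₂ : Subgroup G) : Set G) =
      (W ⊓ centralizer (B₁ : Set G)) ⊔ (W ⊓ centralizer (B₂ : Set G)) := by
  set c₁ := W ⊓ centralizer (B₁ : Set G) with hc₁
  set c₂ := W ⊓ centralizer (B₂ : Set G) with hc₂
  set c := W ⊓ centralizer ((B₁ ⊓ B₂ : Subgroup G) : Set G) with hc
  have hle : c₁ ⊔ c₂ ≤ c := sup_le (cap_centralizer_of_le inf_le_left)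
    (cap_centralizer_of_le inf_le_right)
  have hinf : c₁ ⊓ c₂ = W ⊓ centralizer ((B₁ ⊔ B₂ : Subgroup G) : Set G) := by
    rw [Thompson.centralizer_sup, hc₁, hc₂, ← inf_inf_distrib_left]
  have e1 : Nat.card (B₁ ⊔ B₂ : Subgroup G) * Nat.card (B₁ ⊓ B₂ : Subgroup G) =
      Nat.card B₁ * Nat.card B₂ :=
    Thompson.card_sup_mul_card_inf_of_comm ((h₁.1.trans h.hc).trans (centralizer_le h₂.1))
  have e2 : Nat.card (c₁ ⊔ c₂ : Subgroup G) * Nat.card (c₁ ⊓ c₂ : Subgroup G) =
      Nat.card c₁ * Nat.card c₂ :=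
    Thompson.card_sup_mul_card_inf_of_comm
      ((inf_le_left.trans (hWc h)).trans (centralizer_le inf_le_left))
  set M := Nat.card A * Nat.card (W ⊓ centralizer (A : Set G) : Subgroup G) with hM
  have hMpos : 0 < M := Nat.mul_pos Nat.card_pos Nat.card_pos
  have b1 : Nat.card (B₁ ⊓ B₂ : Subgroup G) * Nat.card c ≤ M :=
    h.bound _ (inf_le_left.trans h₁.1)
  have b2 : Nat.card (B₁ ⊔ B₂ : Subgroup G) * Nat.card (c₁ ⊓ c₂ : Subgroup G) ≤ M := by
    rw [hinf]; exact h.bound _ (sup_le h₁.1 h₂.1)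
  have b3 : Nat.card (c₁ ⊔ c₂ : Subgroup G) ≤ Nat.card c := card_le_of_le hle
  have prod : (Nat.card (B₁ ⊓ B₂ : Subgroup G) * Nat.card (c₁ ⊔ c₂ : Subgroup G)) *
      (Nat.card (B₁ ⊔ B₂ : Subgroup G) * Nat.card (c₁ ⊓ c₂ : Subgroup G)) = M * M := by
    have h3 := h₁.2
    have h4 := h₂.2
    calc _ = (Nat.card (B₁ ⊔ B₂ : Subgroup G) * Nat.card (B₁ ⊓ B₂ : Subgroup G)) *
          (Nat.card (c₁ ⊔ c₂ : Subgroup G) * Nat.card (c₁ ⊓ c₂ : Subgroup G)) := by ring
      _ = (Nat.card B₁ * Nat.card c₁) * (Nat.card B₂ * Nat.card c₂) := by rw [e1, e2]; ring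
      _ = M * M := by rw [h3, h4]
  have b4 : Nat.card (B₁ ⊓ B₂ : Subgroup G) * Nat.card (c₁ ⊔ c₂ : Subgroup G) = M := by
    refine le_antisymm ((Nat.mul_le_mul_left _ b3).trans b1) ?_
    have := Nat.mul_le_mul_left
      (Nat.card (B₁ ⊓ B₂ : Subgroup G) * Nat.card (c₁ ⊔ c₂ : Subgroup G)) b2
    rw [prod] at this
    exact Nat.le_of_mul_le_mul_right this hMpos
  have b5 : Nat.card c ≤ Nat.card (c₁ ⊔ c₂ : Subgroup G) :=
    Nat.le_of_mul_le_mul_left (b4.symm ▸ b1) Nat.card_pos
  refine ⟨⟨inf_le_left.trans h₁.1, ?_⟩, (eq_of_le_of_card_ge hle b5).symm⟩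
  show Nat.card (B₁ ⊓ B₂ : Subgroup G) * Nat.card c = M
  rw [← eq_of_le_of_card_ge hle b5]
  exact b4

omit [Finite G] in
theorem commute_key {v a b c : G} (hv : v ∈ W) (ha : a ∈ A) (hb : b ∈ A) (hc : c ∈ A)
    (hd : ⁅v, a⁆⁻¹ * ⁅v, b⁆ ∈ W ⊓ centralizer (A : Set G)) :
    Commute (b⁻¹ * a) ⁅v, c⁆ := by
  set f := ⁅v, a⁆⁻¹ * ⁅v, b⁆ with hf
  set d := b⁻¹ * a with hdd
  have hfA : ∀ x ∈ A, x * f = f * x := fun x hx => mem_centralizer_iff.1 hd.2 x hx
  have hf0 : f = a * v * a⁻¹ * (b * v * b⁻¹)⁻¹ := by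
    rw [hf, commutatorElement_def, commutatorElement_def]; group
  have h1 : d * v * d⁻¹ = f * v :=
    calc d * v * d⁻¹ = b⁻¹ * (a * v * a⁻¹ * (b * v * b⁻¹)⁻¹) * b * v := by rw [hdd]; group
      _ = b⁻¹ * f * b * v := by rw [hf0]
      _ = f * v := by rw [mul_assoc b⁻¹ f b, ← hfA b hb, inv_mul_cancel_left]
  have hdc : d * c = c * d :=
    mem_centralizer_iff.1 (h.hc hc) d (mul_mem (inv_mem hb) ha)
  have h2 : d * (c * v * c⁻¹) * d⁻¹ = f * (c * v * c⁻¹) :=
    calc d * (c * v * c⁻¹) * d⁻¹ = d * c * v * (d * c)⁻¹ := by group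
      _ = c * d * v * (c * d)⁻¹ := by rw [hdc]
      _ = c * (d * v * d⁻¹) * c⁻¹ := by group
      _ = c * f * v * c⁻¹ := by rw [h1, ← mul_assoc c f v]
      _ = f * (c * v * c⁻¹) := by rw [hfA c hc]; group
  have hcv : ⁅v, c⁆ ∈ W := commutator_le h (commutator_mem_commutator hv hc)
  have h3 : d * ⁅v, c⁆ * d⁻¹ = ⁅v, c⁆ :=
    calc d * ⁅v, c⁆ * d⁻¹ = (d * v * d⁻¹) * (d * (c * v * c⁻¹) * d⁻¹)⁻¹ := by
          rw [commutatorElement_def]; group
      _ = f * ⁅v, c⁆ * f⁻¹ := by rw [h1, h2, commutatorElement_def]; group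
      _ = ⁅v, c⁆ := by rw [← mem_centralizer_iff.1 (hWc h hd.1) _ hcv, mul_inv_cancel_right]
  exact mul_inv_eq_iff_eq_mul.1 h3

theorem reaches_commSpan {v : G} (hv : v ∈ W) :
    Reaches W A (A ⊓ centralizer (Thompson.commSpan A v : Set G)) ∧
      W ⊓ centralizer ((A ⊓ centralizer (Thompson.commSpan A v : Set G) : Subgroup G) : Set G) =
        Thompson.commSpan A v ⊔ (W ⊓ centralizer (A : Set G)) := by
  classical
  set M := Thompson.commSpan A v with hM
  set F := W ⊓ centralizer (A : Set G) with hF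
  set B := A ⊓ centralizer (M : Set G) with hB
  have hMW : M ≤ W := by
    rw [hM, Thompson.commSpan, closure_le]
    rintro _ ⟨a, ha, rfl⟩
    exact commutator_le h (commutator_mem_commutator hv ha)
  have hle : M ⊔ F ≤ W ⊓ centralizer (B : Set G) :=
    sup_le (le_inf hMW (le_centralizer_iff.1 inf_le_right)) (cap_centralizer_of_le inf_le_left)
  let K : Subgroup M := F.subgroupOf M
  let f : A → M := fun a => ⟨⁅v, (a : G)⁆, subset_closure ⟨a, a.2, rfl⟩⟩
  have hinj : Function.Injective (fun q : A ⧸ B.subgroupOf A =>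
      (QuotientGroup.mk (f q.out) : M ⧸ K)) := by
    intro q r hqr
    rw [QuotientGroup.eq, Subgroup.mem_subgroupOf] at hqr
    have hd : ⁅v, (q.out : G)⁆⁻¹ * ⁅v, (r.out : G)⁆ ∈ F := hqr
    rw [← q.out_eq, ← r.out_eq]
    refine (QuotientGroup.eq.2 ?_).symm
    rw [Subgroup.mem_subgroupOf]
    refine ⟨(((r.out)⁻¹ * q.out : A)).2, ?_⟩
    show ((r.out : G))⁻¹ * (q.out : G) ∈ centralizer (M : Set G)
    rw [hM, Thompson.commSpan, centralizer_closure, mem_centralizer_iff]
    rintro _ ⟨c, hc, rfl⟩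
    exact (commute_key h hv q.out.2 r.out.2 hc hd).eq.symm
  have hidx : B.relIndex A ≤ F.relIndex M := Nat.card_le_card_of_injective _ hinj
  have hcA : Nat.card B * B.relIndex A = Nat.card A := by
    rw [← relIndex_bot_left, ← relIndex_bot_left,
      relIndex_mul_relIndex _ _ _ bot_le inf_le_left]
  have hcM : Nat.card (M ⊓ F : Subgroup G) * F.relIndex M = Nat.card M := by
    rw [← inf_relIndex_left, ← relIndex_bot_left, ← relIndex_bot_left,
      relIndex_mul_relIndex _ _ _ bot_le inf_le_left]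
  have hsup : Nat.card (M ⊔ F : Subgroup G) * Nat.card (M ⊓ F : Subgroup G) =
      Nat.card M * Nat.card F :=
    Thompson.card_sup_mul_card_inf_of_comm
      ((hMW.trans (hWc h)).trans (centralizer_le inf_le_left))
  have hge : Nat.card A * Nat.card F ≤ Nat.card B * Nat.card (M ⊔ F : Subgroup G) := by
    have h1 : Nat.card (M ⊔ F : Subgroup G) = F.relIndex M * Nat.card F := by
      refine Nat.eq_of_mul_eq_mul_right (Nat.card_pos (α := (M ⊓ F : Subgroup G))) ?_
      rw [hsup, ← hcM]; ring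
    rw [h1, ← hcA, ← mul_assoc]
    exact Nat.mul_le_mul_right _ (Nat.mul_le_mul_left _ hidx)
  have hub := h.bound B inf_le_left
  have heq : M ⊔ F = W ⊓ centralizer (B : Set G) :=
    eq_of_le_of_card_ge hle (Nat.le_of_mul_le_mul_left (hub.trans hge) Nat.card_pos)
  exact ⟨⟨inf_le_left, le_antisymm hub (heq ▸ hge)⟩, heq.symm⟩

/-- Timmesfeld's replacement. -/
theorem reaches_centralizer_commutator :
    Reaches W A (A ⊓ centralizer ((⁅W, A⁆ : Subgroup G) : Set G)) ∧
      W ⊓ centralizer ((A ⊓ centralizer ((⁅W, A⁆ : Subgroup G) : Set G) : Subgroup G) : Set G) =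
        ⁅W, A⁆ ⊔ (W ⊓ centralizer (A : Set G)) := by
  classical
  let := Fintype.ofFinite W
  have key : ∀ s : Finset W,
      Reaches W A (A ⊓ centralizer ((s.sup fun v : W => Thompson.commSpan A (v : G) : Subgroup G) : Set G)) ∧
        W ⊓ centralizer ((A ⊓ centralizer ((s.sup fun v : W => Thompson.commSpan A (v : G) : Subgroup G) :
          Set G) : Subgroup G) : Set G) =
          (s.sup fun v : W => Thompson.commSpan A (v : G)) ⊔ (W ⊓ centralizer (A : Set G)) := by
    intro s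
    induction s using Finset.induction with
    | empty =>
      have hbot : A ⊓ centralizer ((⊥ : Subgroup G) : Set G) = A :=
        inf_eq_left.2 (le_centralizer_iff.1 bot_le)
      rw [Finset.sup_empty, hbot, bot_sup_eq]
      exact ⟨reaches_self, rfl⟩
    | insert v s _ ih =>
      have h2 := reaches_commSpan h v.2
      have hsplit : A ⊓ centralizer ((Thompson.commSpan A (v : G) ⊔
            s.sup fun v : W => Thompson.commSpan A (v : G) : Subgroup G) : Set G) =
          (A ⊓ centralizer (Thompson.commSpan A (v : G) : Set G)) ⊓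
            (A ⊓ centralizer ((s.sup fun v : W => Thompson.commSpan A (v : G) : Subgroup G) : Set G)) := by
        rw [Thompson.centralizer_sup, inf_inf_distrib_left]
      rw [Finset.sup_insert, hsplit]
      obtain ⟨h3, h4⟩ := reaches_inf h h2.1 ih.1
      refine ⟨h3, ?_⟩
      rw [h4, h2.2, ih.2, sup_sup_sup_comm, sup_idem]
  have hU : ((Finset.univ : Finset W).sup fun v : W => Thompson.commSpan A (v : G)) = ⁅W, A⁆ := by
    refine le_antisymm (Finset.sup_le fun v _ => ?_) (Subgroup.commutator_le.2 fun v hv a ha => ?_)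
    · rw [Thompson.commSpan, closure_le]
      rintro _ ⟨a, ha, rfl⟩
      exact commutator_mem_commutator v.2 ha
    · exact Finset.le_sup (f := fun v : W => Thompson.commSpan A (v : G)) (Finset.mem_univ ⟨v, hv⟩)
        (subset_closure ⟨a, ha, rfl⟩)
  rw [← hU]
  exact key _

end Replacement

section Two

variable {H : Subgroup G} (h : AbOff 2 W A)
include h

omit [Finite G] in
/-- An element of `A` fixing its commutators with `W` squares to the identity. -/
theorem sq_eq_one {a : G} (ha : a ∈ A) (hfix : a ∈ centralizer ((⁅W, A⁆ : Subgroup G) : Set G)) :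
    a ^ 2 = 1 := by
  rw [← mem_bot, ← h.hf]
  refine ⟨pow_mem ha 2, mem_centralizer_iff.2 fun v hv => ?_⟩
  set u := ⁅v, a⁆ with hu
  have huW : u ∈ W := commutator_le h (commutator_mem_commutator hv ha)
  have hau : u * a = a * u := mem_centralizer_iff.1 hfix u (commutator_mem_commutator hv ha)
  have h1 : a * v * a⁻¹ = u⁻¹ * v := by rw [hu, commutatorElement_def]; group
  have hu1 : u⁻¹ * u⁻¹ = 1 := by
    rw [← sq]; exact (Thompson.ea_iff.1 h.hW).2 _ (inv_mem huW)
  have h2 : a ^ 2 * v * (a ^ 2)⁻¹ = v :=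
    calc a ^ 2 * v * (a ^ 2)⁻¹ = a * (a * v * a⁻¹) * a⁻¹ := by rw [sq]; group
      _ = (a * u⁻¹ * a⁻¹) * (a * v * a⁻¹) := by nth_rewrite 1 [h1]; group
      _ = u⁻¹ * (u⁻¹ * v) := by
          rw [(show Commute u a from hau).symm.inv_right.eq, mul_inv_cancel_right, h1]
      _ = v := by rw [← mul_assoc, hu1, one_mul]
  exact (mul_inv_eq_iff_eq_mul.1 h2).symm

/-- The abelian offender is elementary abelian and a best offender. -/
theorem offender_of_ff (hff : FF 2 W H) (hAH : A ≤ normalizer (H : Set G))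
    (hin : ∀ B : Subgroup G, B ≤ A → Cfsg.IsBestOffenderOn 2 W B → B ≤ H) :
    Cfsg.IsBestOffenderOn 2 W A := by
  obtain ⟨⟨hBA, hBeq⟩, hMeq⟩ := reaches_centralizer_commutator h
  set B := A ⊓ centralizer ((⁅W, A⁆ : Subgroup G) : Set G) with hB
  set F := W ⊓ centralizer (A : Set G) with hF
  set M := W ⊓ centralizer (B : Set G) with hM
  have hBea : Cfsg.IsElementaryAbelian 2 B :=
    Thompson.ea_iff.2 ⟨(hBA.trans h.hc).trans (centralizer_le hBA), fun a ha =>
      sq_eq_one h ha.1 ha.2⟩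
  have hBoff : Cfsg.IsBestOffenderOn 2 W B := by
    refine ⟨fun D hD => (h.bound D (hD.trans hBA)).trans hBeq.ge, ?_, fun a ha => ?_⟩
    · rw [commutator_eq_bot_iff_le_centralizer.2 (Thompson.ea_iff.1 hBea).1]
      exact bot_le
    · rw [(Thompson.ea_iff.1 hBea).2 a ha]
      exact one_mem _
  have hBH : B ≤ H := hin B hBA hBoff
  obtain ⟨k, L, hL, -, hLsup⟩ := hff.exists_lines hBH hBoff
  let P : Fin k → Subgroup G := fun i => ⁅W, blk 2 H (L i)⁆
  have hPW : ∀ i, P i ≤ W := fun i => (hL i).2.plane_le_V hff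
  have hAP : ∀ i, A ≤ normalizer (P i : Set G) := fun i => le_normalizer_of_cj fun a ha => by
    rw [cj_commutator_left (h.hn ha), cj_blk_of_normalizes (hAH ha),
      cj_eq_self (centralizer_le_normalizer _ (centralizer_le ((hL i).1.trans hBA) (h.hc ha)))]
  -- `A` centralises the commutators with each plane
  have hPA : ∀ i, ⁅P i, A⁆ ≤ F := by
    intro i
    set K := ⁅P i, A⁆ with hK
    have hKP : K ≤ P i := le_normalizer_iff_commutator_le_left.1 (hAP i)
    refine le_inf (hKP.trans (hPW i)) ?_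
    by_contra hKA
    have hne : ⁅K, A⁆ ≠ ⊥ := fun h0 => hKA (commutator_eq_bot_iff_le_centralizer.1 h0)
    have hPp : IsPGroup 2 (P i) := hff.hVp.to_le (hPW i)
    have hKne : K ≠ ⊥ := fun h0 => hne (by rw [h0, commutator_bot_left])
    have hPne : P i ≠ ⊥ := fun h0 => hKne (le_bot_iff.1 (h0 ▸ hKP))
    have hlt := Coprime.commutator_lt_of_isPGroup h.hp hPp (hAP i) hPne
    have hlt2 := Coprime.commutator_lt_of_isPGroup h.hp (hPp.to_le hKP)
      (normalizer_commutator_ge_right (P i) A) hKne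
    have hc4 : Nat.card (P i) = 2 ^ 2 := (hL i).2.card_blk_commutator hff
    have h1 : 2 * Nat.card K ≤ 2 ^ 2 := hc4 ▸ mul_card_le_of_lt hPp hlt
    have h2 : 2 * Nat.card (⁅K, A⁆ : Subgroup G) ≤ Nat.card K :=
      mul_card_le_of_lt (hPp.to_le hKP) hlt2
    have h3 := (Subgroup.one_lt_card_iff_ne_bot _).2 hne
    omega
  -- `W` is generated by `M` and the planes
  have hgen : ∀ s : Finset (Fin k), ∀ v ∈ W,
      ∃ u ∈ ⨆ i, P i, ∀ i ∈ s, u * v ∈ centralizer (L i : Set G) := by
    classical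
    intro s
    induction s using Finset.induction with
    | empty => exact fun v _ => ⟨1, one_mem _, fun i hi => absurd hi (Finset.notMem_empty i)⟩
    | insert i s _ ih =>
      intro v hv
      obtain ⟨u, hu, huv⟩ := ih v hv
      have huW : u ∈ W := (iSup_le hPW) hu
      have hw : u * v ∈ P i ⊔ (W ⊓ centralizer (blk 2 H (L i) : Set G)) :=
        ((hL i).2.blk_commutator_sup hff).ge (mul_mem huW hv)
      rw [← SetLike.mem_coe, coe_mul_of_right_le_normalizer_left _ _
        (inf_le_left.trans (((hWc h).trans (centralizer_le (hPW i))).trans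
          (centralizer_le_normalizer _)))] at hw
      obtain ⟨q, hq, c, hc, hqc⟩ := hw
      refine ⟨q⁻¹ * u, mul_mem (inv_mem (le_iSup P i hq)) hu, fun r hr => ?_⟩
      have hce : q⁻¹ * u * v = c := by
        rw [mul_assoc, ← hqc]; exact inv_mul_cancel_left q c
      rw [hce]
      by_cases he : blk 2 H (L r) = blk 2 H (L i)
      · exact centralizer_le (show L r ≤ blk 2 H (L i) from he ▸ le_sup_right) hc.2
      rcases Finset.mem_insert.1 hr with rfl | hr
      · exact absurd rfl he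
      rw [← hce, mul_assoc]
      refine mul_mem (inv_mem ?_) (huv r hr)
      exact le_centralizer_iff.1 (le_sup_right.trans
        (((hL i).2.blk_le_of_ne hff (hL r).2 he).trans inf_le_right)) hq
  -- the subgroup of elements whose commutators with `A` lie in `[M, A] F`
  set K := ⁅M, A⁆ with hK
  have hMW : M ≤ W := inf_le_left
  have hKW : K ≤ W := (commutator_mono hMW le_rfl).trans (commutator_le h)
  have hWA : ⁅W, A⁆ ≤ K ⊔ F := by
    rw [Subgroup.commutator_le]
    intro v hv a ha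
    obtain ⟨u, hu, huv⟩ := hgen Finset.univ v hv
    have huW : u ∈ W := (iSup_le hPW) hu
    have hm : u * v ∈ M := by
      refine ⟨mul_mem huW hv, ?_⟩
      have : B ≤ centralizer ({u * v} : Set G) := hLsup ▸ iSup_le fun i y hy =>
        mem_centralizer_singleton_iff.2 (mem_centralizer_iff.1 (huv i (Finset.mem_univ i)) y hy)
      exact mem_centralizer_iff.2 fun y hy => mem_centralizer_singleton_iff.1 (this hy)
    have hmul : ∀ x ∈ W, ∀ y ∈ W, ⁅x * y, a⁆ = ⁅x, a⁆ * ⁅y, a⁆ := by
      intro x hx y hy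
      have hya : ⁅y, a⁆ ∈ W := commutator_le h (commutator_mem_commutator hy ha)
      have hxa : ⁅x, a⁆ ∈ W := commutator_le h (commutator_mem_commutator hx ha)
      have e1 : ⁅x * y, a⁆ = x * ⁅y, a⁆ * x⁻¹ * ⁅x, a⁆ := by
        simp only [commutatorElement_def]; group
      rw [e1, ← mem_centralizer_iff.1 (hWc h hx) _ hya, mul_inv_cancel_right,
        ← mem_centralizer_iff.1 (hWc h hxa) _ hya]
    have hU : ∀ x ∈ ⨆ i, P i, ⁅x, a⁆ ∈ F := by
      intro x hx
      induction hx using Subgroup.iSup_induction' with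
      | hp i x hx => exact hPA i (commutator_mem_commutator hx ha)
      | h1 => rw [commutatorElement_one_left]; exact one_mem _
      | hmul x y hx hy ex ey =>
        rw [hmul x (iSup_le hPW hx) y (iSup_le hPW hy)]
        exact mul_mem ex ey
    have h1 : ⁅v, a⁆ = ⁅u⁻¹, a⁆ * ⁅u * v, a⁆ := by
      rw [← hmul u⁻¹ (inv_mem huW) (u * v) hm.1, inv_mul_cancel_left]
    rw [h1]
    exact mul_mem (mem_sup_right (hU _ (inv_mem hu)))
      (mem_sup_left (commutator_mem_commutator hm ha))
  have hMKF : M ≤ K ⊔ F := hMeq.le.trans (sup_le hWA le_sup_right)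
  have hK0 : K = ⊥ := by
    by_contra hne
    refine absurd ?_ (Coprime.commutator_lt_of_isPGroup h.hp (hff.hVp.to_le hKW)
      (normalizer_commutator_ge_right M A) hne).not_ge
    rw [hK, Subgroup.commutator_le]
    intro m hm a ha
    have hm' := hMKF hm
    rw [← SetLike.mem_coe, coe_mul_of_right_le_normalizer_left _ _
      ((inf_le_left.trans ((hWc h).trans (centralizer_le hKW))).trans
        (centralizer_le_normalizer _))] at hm'
    obtain ⟨x, hx, y, hy, rfl⟩ := hm'
    have hya : ⁅y, a⁆ = 1 :=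
      commutatorElement_eq_one_iff_mul_comm.2 (mem_centralizer_iff.1 hy.2 a ha).symm
    have e1 : ⁅x * y, a⁆ = ⁅x, a⁆ := by
      have e : ⁅x * y, a⁆ = x * ⁅y, a⁆ * x⁻¹ * ⁅x, a⁆ := by
        simp only [commutatorElement_def]; group
      rw [e, hya, mul_one, mul_inv_cancel, one_mul]
    show ⁅x * y, a⁆ ∈ _
    rw [e1]
    exact commutator_mem_commutator hx ha
  rw [hK0, bot_sup_eq] at hWA
  have hAB : A ≤ B := le_inf le_rfl (le_centralizer_iff.1 (hWA.trans inf_le_right))
  rw [le_antisymm hAB hBA]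
  exact hBoff

end Two

end Cfsg.Agent.AbelianOffender
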