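import Cfsg.Agent.Thompson.Stable
import Cfsg.Agent.Layer.PConstraint

/-!
Thompson factorizability modulo a normal subgroup of order prime to `p`.
-/

namespace Cfsg.Agent.Thompson

open Subgroup

variable {p : ℕ} {G : Type*} [Group G] {G' : Type*} [Group G']

/-- `Ω₁(Z(U))` of a subgroup, seen in the ambient group, commutes with injective restrictions. -/
theorem omegaCentre_map_of_injOn {U : Subgroup G} {f : G →* G'}
    (hf : Function.Injective (f.comp U.subtype)) :
    (Cfsg.omegaOne p (U ⊓ centralizer (U : Set G))).map f =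
      Cfsg.omegaOne p (U.map f ⊓ centralizer ((U.map f : Subgroup G') : Set G')) := by
  have h2 : (Cfsg.omegaOne p ((⊤ : Subgroup U) ⊓ centralizer ((⊤ : Subgroup U) : Set U))).map
      U.subtype = Cfsg.omegaOne p ((⊤ : Subgroup U).map U.subtype ⊓
        centralizer (((⊤ : Subgroup U).map U.subtype : Subgroup G) : Set G)) := by
    rw [omegaOne_map_of_injective U.subtype_injective, map_centre_of_injective U.subtype_injective]
  have h3 : (Cfsg.omegaOne p ((⊤ : Subgroup U) ⊓ centralizer ((⊤ : Subgroup U) : Set U))).map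
      (f.comp U.subtype) = Cfsg.omegaOne p ((⊤ : Subgroup U).map (f.comp U.subtype) ⊓
        centralizer (((⊤ : Subgroup U).map (f.comp U.subtype) : Subgroup G') : Set G')) := by
    rw [omegaOne_map_of_injective hf, map_centre_of_injective hf]
  rw [← MonoidHom.range_eq_map, Subgroup.range_subtype] at h2
  rw [← h2, map_map, h3, ← map_map, ← MonoidHom.range_eq_map, Subgroup.range_subtype]

/-- The Thompson subgroup commutes with injective restrictions. -/
theorem thompsonOf_map_of_injOn {U : Subgroup G} {f : G →* G'}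
    (hf : Function.Injective (f.comp U.subtype)) :
    (Cfsg.thompsonSubgroupOf p U).map f = Cfsg.thompsonSubgroupOf p (U.map f) := by
  have h2 := thompsonOf_map_of_injective (p := p) U.subtype_injective
    (⊤ : Subgroup U)
  have h3 := thompsonOf_map_of_injective (p := p) hf (⊤ : Subgroup U)
  rw [← MonoidHom.range_eq_map, Subgroup.range_subtype] at h2
  rw [← h2, map_map, h3, ← map_map, ← MonoidHom.range_eq_map, Subgroup.range_subtype]

variable [Finite G] [Fact p.Prime]

theorem isThompsonFactorizable_quotient_iff :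
    Cfsg.IsThompsonFactorizable p G ↔
      Cfsg.IsThompsonFactorizable p (G ⧸ Cfsg.pPrimeCore p G) := by
  set f := QuotientGroup.mk' (Cfsg.pPrimeCore p G) with hfdef
  have hf : Function.Surjective f := QuotientGroup.mk'_surjective _
  have hker : (Nat.card f.ker).Coprime p := by
    rw [hfdef, QuotientGroup.ker_mk']
    exact Core.coprime_card_pPrimeCore
  have key : ∀ S : Sylow p G,
      (centralizer (Cfsg.omegaOne p ((S : Subgroup G) ⊓ centralizer ((S : Subgroup G) : Set G)) :
          Set G)).map f =
        centralizer ((Cfsg.omegaOne p (((S.mapSurjective hf : Sylow p _) : Subgroup _) ⊓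
          centralizer (((S.mapSurjective hf : Sylow p _) : Subgroup (G ⧸ Cfsg.pPrimeCore p G)) :
            Set (G ⧸ Cfsg.pPrimeCore p G))) : Subgroup (G ⧸ Cfsg.pPrimeCore p G)) :
              Set (G ⧸ Cfsg.pPrimeCore p G)) ∧
      (normalizer (Cfsg.thompsonSubgroupOf p (S : Subgroup G) : Set G)).map f =
        normalizer ((Cfsg.thompsonSubgroupOf p ((S.mapSurjective hf : Sylow p _) : Subgroup _) :
          Subgroup (G ⧸ Cfsg.pPrimeCore p G)) : Set (G ⧸ Cfsg.pPrimeCore p G)) := by
    intro S
    have hinj : Function.Injective (f.comp (S : Subgroup G).subtype) := by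
      rw [injective_iff_map_eq_one]
      intro x hx
      have h1 : ((x : G)) ∈ (S : Subgroup G) ⊓ f.ker := ⟨x.2, hx⟩
      rw [Subgroup.inf_eq_bot_of_coprime (Layer.coprime_card_of_isPGroup S.isPGroup' hker),
        mem_bot] at h1
      exact Subtype.ext h1
    refine ⟨?_, ?_⟩
    · rw [Layer.map_centralizer_of_coprime hf hker
          (S.isPGroup'.to_le ((omegaOne_le p _).trans inf_le_left)),
        omegaCentre_map_of_injOn hinj, Sylow.coe_mapSurjective]
    · rw [Layer.map_normalizer_of_coprime hf hker (S.isPGroup'.to_le (thompsonOf_le p _)),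
        thompsonOf_map_of_injOn hinj, Sylow.coe_mapSurjective]
  constructor
  · intro h S' g'
    obtain ⟨S, rfl⟩ := Sylow.mapSurjective_surjective hf p S'
    obtain ⟨g, rfl⟩ := hf g'
    obtain ⟨x, hx, c, hc, n, hn, rfl⟩ := h S g
    refine ⟨1, one_mem _, f c, (key S).1 ▸ mem_map_of_mem f hc, f n,
      (key S).2 ▸ mem_map_of_mem f hn, ?_⟩
    rw [map_mul, map_mul, hfdef, QuotientGroup.mk'_apply, (QuotientGroup.eq_one_iff x).2 hx]
  · intro h S g
    obtain ⟨x', hx', c', hc', n', hn', he⟩ := h (S.mapSurjective hf) (f g)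
    rw [Core.pPrimeCore_quotient_eq_bot, mem_bot] at hx'
    subst hx'
    rw [← (key S).1] at hc'
    rw [← (key S).2] at hn'
    obtain ⟨c, hc, rfl⟩ := hc'
    obtain ⟨n, hn, rfl⟩ := hn'
    refine ⟨g * (c * n)⁻¹, ?_, c, hc, n, hn, by group⟩
    rw [← QuotientGroup.eq_one_iff]
    show f (g * (c * n)⁻¹) = 1
    rw [map_mul, map_inv, map_mul, he, one_mul, mul_inv_cancel]

end Cfsg.Agent.Thompson
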