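import Cfsg.Agent.Thompson.AbelianOffender
import Cfsg.Agent.Thompson.Offender.Action
import Cfsg.Agent.Fusion.AbMax
import Cfsg.Agent.S0617
import Cfsg.Agent.S0250
import Cfsg.Agent.Core.Fitting
import Cfsg.Agent.Fusion.SolvablePSolvable

/-!
The action of a solvable group on the closure of the centre of a Sylow 2-subgroup: the images of
the abelian subgroups of largest order are best offenders, and the group they generate is a direct
product of copies of the symmetric group of degree 3.
-/

set_option autoImplicit false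

namespace Cfsg.Agent.AbelianFactor

open Subgroup
open Cfsg.Agent.Offender

section Group

variable {G : Type*} [Group G] {p : ℕ}

/-- Best offenders are permuted by the normaliser of the module. -/
theorem offender_cj [Finite G] {W A : Subgroup G} {x : G} (hx : x ∈ normalizer (W : Set G))
    (hA : Cfsg.IsBestOffenderOn p W A) : Cfsg.IsBestOffenderOn p W (cj x A) := by
  have hC : cj x (centralizer (W : Set G)) = centralizer (W : Set G) := by
    rw [cj_centralizer, cj_eq_self hx]
  refine ⟨fun B hB => ?_, ?_, fun a ha => ?_⟩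
  · have hB' : cj x⁻¹ B ≤ A := by
      refine (cj_mono hB).trans (le_of_eq ?_)
      rw [cj_cj, inv_mul_cancel, cj_one]
    have := hA.1 _ hB'
    rwa [card_cj, ← cj_fix (inv_mem hx), card_cj, ← card_cj x A,
      ← card_cj x (W ⊓ centralizer (A : Set G)), cj_fix hx] at this
  · rw [← cj_commutator, ← hC]
    exact cj_mono hA.2.1
  · obtain ⟨b, hb, rfl⟩ := ha
    rw [← hC, ← map_pow]
    exact mem_map_of_mem _ (hA.2.2 b hb)

/-- A failure of factorization group for `p = 2` is a product of symmetric groups of degree 3. -/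
theorem ff_two_structure [Finite G] {W H : Subgroup G} (h : FF 2 W H) (hne : H ≠ ⊥) :
    ∃ n : ℕ, 1 ≤ n ∧ Nonempty (↥H ≃* (Fin n → Equiv.Perm (Fin 3))) := by
  classical
  obtain ⟨-, hE, hind, hsup, -, -⟩ :=
    Cfsg.Agent.S0617.result W H h.hV h.hHV h.hf h.hS1 h.hS3 hne
  set T := {E : Subgroup G // ∃ A : Subgroup G, A ≤ H ∧ Cfsg.IsBestOffenderOn 2 W A ∧
    ⁅W, A⁆ ≠ ⊥ ∧
    (∀ B : Subgroup G, B ≤ A → Cfsg.IsBestOffenderOn 2 W B → ⁅W, B⁆ ≠ ⊥ → B = A) ∧
    E = ⁅((Cfsg.pPrimeCore 2 ↥H).map H.subtype), A⁆ ⊔ A} with hT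
  let := Fintype.ofFinite T
  have hle : ∀ E : T, (E : Subgroup G) ≤ H := fun E =>
    (le_iSup (fun E : T => (E : Subgroup G)) E).trans hsup.le
  have hcomm : Pairwise fun i j : T => ∀ x y : G, x ∈ (i : Subgroup G) → y ∈ (j : Subgroup G) →
      Commute x y := by
    intro i j hij x y hx hy
    have hd : Disjoint (i : Subgroup G) (j : Subgroup G) := hind.pairwiseDisjoint hij
    refine commutatorElement_eq_one_iff_commute.1 (mem_bot.1 (hd.le_bot ⟨?_, ?_⟩))
    · exact le_normalizer_iff_commutator_le_left.1 ((hle j).trans (hE i).1)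
        (commutator_mem_commutator hx hy)
    · exact le_normalizer_iff_commutator_le_right.1 ((hle i).trans (hE j).1)
        (commutator_mem_commutator hx hy)
  have hinj := injective_noncommPiCoprod_of_iSupIndep (hcomm := hcomm) hind
  have hrange : (noncommPiCoprod hcomm).range = H := noncommPiCoprod_range.trans hsup
  obtain ⟨g⟩ := Cfsg.Agent.S0250.result (F := ZMod 2) (ZMod.card 2)
  let φ : ∀ E : T, ↥(E : Subgroup G) ≃* Equiv.Perm (Fin 3) := fun E =>
    ((hE E).2.1.some).trans g
  let e₁ : ((E : T) → ↥(E : Subgroup G)) ≃* ↥H :=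
    (MonoidHom.ofInjective hinj).trans (MulEquiv.subgroupCongr hrange)
  let σ := Fintype.equivFin T
  let e₂ : (T → Equiv.Perm (Fin 3)) ≃* (Fin (Fintype.card T) → Equiv.Perm (Fin 3)) :=
    { σ.arrowCongr (Equiv.refl _) with map_mul' := fun _ _ => rfl }
  refine ⟨Fintype.card T, ?_, ⟨(e₁.symm.trans (MulEquiv.piCongrRight φ)).trans e₂⟩⟩
  by_contra hc
  have hT0 : IsEmpty T := Fintype.card_eq_zero_iff.1 (by omega)
  exact hne (hsup.symm.trans (iSup_of_empty _))

end Group

section Action

variable {X : Type*} [Group X] [Finite X] [Group.IsSolvable X] {W : Subgroup X} [W.Normal]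

/-- A normal subgroup of the image of a solvable group, generated by best offenders, satisfies
the hypotheses of the structure theorem. -/
theorem ff_of_generated (hW : Cfsg.IsElementaryAbelian 2 W)
    (hO : Cfsg.pCore 2 (act W).range = ⊥) {H : Subgroup (Hol W)} (hH : H ≤ (act W).range)
    (hn : (act W).range ≤ normalizer (H : Set (Hol W)))
    (hgen : H = ⨆ A : {A : Subgroup (Hol W) // A ≤ H ∧ Cfsg.IsBestOffenderOn 2 (emb W W) A},
      (A : Subgroup (Hol W))) : FF 2 (emb W W) H := by
  refine ⟨emb_ea hW, hH.trans act_le_normalizer, ?_, ?_, hgen⟩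
  · rw [eq_bot_iff]
    rintro x ⟨hx, hc⟩
    obtain ⟨g, rfl⟩ := hH hx
    refine mem_bot.2 (MonoidHom.mem_ker.1 ?_)
    rw [act_ker, mem_centralizer_iff]
    intro v hv
    have h1 := mem_centralizer_iff.1 hc _ (inl_mem_emb (v := ⟨v, hv⟩).2 hv)
    have h2 := act_conj g ⟨v, hv⟩
    rw [← h1, mul_inv_cancel_right] at h2
    exact (mul_inv_eq_iff_eq_mul.1
      (congrArg Subtype.val (SemidirectProduct.inl_injective h2)).symm).symm
  · have hsolR : Group.IsSolvable (act W).range :=
      Group.isSolvable_of_surjective (act W).rangeRestrict_surjective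
    have hsolH : Group.IsSolvable H :=
      Group.isSolvable_of_isSolvable_injective (f := Subgroup.inclusion hH) (inclusion_injective hH)
    refine centralizer_pPrimeCore_le (Fusion.isPSolvable_of_isSolvable (p := 2) ↥H) ?_
    have hnH : (H.subgroupOf (act W).range).Normal := normal_subgroupOf_of_le_normalizer hn
    rw [← Core.map_pCore (subgroupOfEquivOfLe hH),
      Subgroup.map_eq_bot_iff_of_injective _ (subgroupOfEquivOfLe hH).injective,
      ← Subgroup.map_eq_bot_iff_of_injective _ (H.subgroupOf (act W).range).subtype_injective,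
      ← le_bot_iff, ← hO]
    refine Layer.subnormal_le_pCore (Subgroup.Normal.isSubnormal inferInstance |>.trans'
      (Subgroup.Normal.isSubnormal hnH)) (Core.pCore_isPGroup.map _)

/-- The join of all best offenders in the image. -/
def offenderJoin (W : Subgroup X) [W.Normal] : Subgroup (Hol W) :=
  ⨆ A : {A : Subgroup (Hol W) // A ≤ (act W).range ∧ Cfsg.IsBestOffenderOn 2 (emb W W) A},
    (A : Subgroup (Hol W))

omit [Group.IsSolvable X] in
theorem range_le_normalizer_offenderJoin :
    (act W).range ≤ normalizer (offenderJoin W : Set (Hol W)) := by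
  refine le_normalizer_of_cj fun y hy => ?_
  have hle : ∀ y ∈ (act W).range, cj y (offenderJoin W) ≤ offenderJoin W := by
    intro y hy
    rw [offenderJoin, cj, Subgroup.map_iSup]
    exact iSup_le fun A => le_iSup_of_le
      (⟨cj y A, (cj_mono A.2.1).trans (cj_eq_self (le_normalizer hy)).le,
        offender_cj (act_le_normalizer hy) A.2.2⟩ :
        {A : Subgroup (Hol W) // A ≤ (act W).range ∧ Cfsg.IsBestOffenderOn 2 (emb W W) A}) le_rfl
  refine le_antisymm (hle y hy) ?_
  have := cj_mono (x := y) (hle y⁻¹ (inv_mem hy))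
  rwa [cj_cj, mul_inv_cancel, cj_one] at this

theorem ff_offenderJoin (hW : Cfsg.IsElementaryAbelian 2 W)
    (hO : Cfsg.pCore 2 (act W).range = ⊥) : FF 2 (emb W W) (offenderJoin W) :=
  ff_of_generated hW hO (iSup_le fun A => A.2.1) range_le_normalizer_offenderJoin
    (le_antisymm (iSup_le fun A => le_iSup_of_le
      (⟨A, le_iSup (fun A : {A : Subgroup (Hol W) // A ≤ (act W).range ∧
        Cfsg.IsBestOffenderOn 2 (emb W W) A} => (A : Subgroup (Hol W))) A, A.2.2⟩ :
      {A : Subgroup (Hol W) // A ≤ offenderJoin W ∧ Cfsg.IsBestOffenderOn 2 (emb W W) A}) le_rfl)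
      (iSup_le fun A => A.2.1))

/-- The image of an abelian subgroup of largest order of a 2-group is a best offender. -/
theorem offender_of_abMax (hW : Cfsg.IsElementaryAbelian 2 W)
    (hO : Cfsg.pCore 2 (act W).range = ⊥) {S A : Subgroup X} (hS : IsPGroup 2 S) (hWS : W ≤ S)
    (hA : Fusion.AbMax 0 S A) : Cfsg.IsBestOffenderOn 2 (emb W W) (A.map (act W)) := by
  have hAc : A ≤ centralizer (A : Set X) := fun x hx => mem_centralizer_iff.2 fun y hy =>
    (Fusion.commute_of_isMulCommutative hA.comm hy hx).eq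
  have hWc := (Thompson.ea_iff.1 hW).1
  set σ := act W with hσ
  have hfix : W ⊓ centralizer (A : Set X) = A ⊓ W := by
    refine le_antisymm (fun x hx => ⟨?_, hx.1⟩) (le_inf inf_le_right (inf_le_left.trans hAc))
    exact Fusion.mem_of_commute hA (hWS hx.1) (pow_zero x) fun a ha =>
      mem_centralizer_iff.1 hx.2 a ha
  have hbound : ∀ B : Subgroup (Hol W), B ≤ A.map σ →
      Nat.card B * Nat.card (emb W W ⊓ centralizer (B : Set (Hol W)) : Subgroup (Hol W)) ≤
        Nat.card (A.map σ) *
          Nat.card (emb W W ⊓ centralizer (A.map σ : Set (Hol W)) : Subgroup (Hol W)) := by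
    intro B hB
    set B₀ := A ⊓ B.comap σ with hB₀
    have hmap : B₀.map σ = B := by
      refine le_antisymm (map_le_iff_le_comap.2 inf_le_right) fun b hb => ?_
      obtain ⟨a, ha, rfl⟩ := hB hb
      exact ⟨a, ⟨ha, hb⟩, rfl⟩
    have hAW : ∀ x ∈ A, x ∈ centralizer (W : Set X) → x ∈ B₀ := fun x hx hxc => by
      refine ⟨hx, ?_⟩
      show σ x ∈ B
      rw [show σ x = 1 from MonoidHom.mem_ker.1 ((act_ker (V := W)).ge hxc)]
      exact one_mem _
    have hker : B₀ ⊓ centralizer (W : Set X) = A ⊓ centralizer (W : Set X) :=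
      le_antisymm (inf_le_inf_right _ inf_le_left) fun x hx => ⟨hAW x hx.1 hx.2, hx.2⟩
    set C₀ := W ⊓ centralizer (B₀ : Set X) with hC₀
    have hcomm : B₀ ≤ centralizer (C₀ : Set X) := le_centralizer_iff.1 inf_le_right
    have hinf : B₀ ⊓ C₀ = A ⊓ W := by
      refine le_antisymm (inf_le_inf inf_le_left inf_le_left) fun x hx => ⟨hAW x hx.1 (hWc hx.2), ?_⟩
      exact ⟨hx.2, centralizer_le inf_le_left (hAc hx.1)⟩
    have hKab : Fusion.AbMem 0 S (B₀ ⊔ C₀) := by
      refine Fusion.abMem_zero_iff.2 ⟨sup_le (inf_le_left.trans hA.le) (inf_le_left.trans hWS), ?_⟩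
      have hle : B₀ ⊔ C₀ ≤ centralizer ((B₀ ⊔ C₀ : Subgroup X) : Set X) := by
        rw [Thompson.centralizer_sup]
        exact le_inf (sup_le ((inf_le_left.trans hAc).trans (centralizer_le inf_le_left))
          inf_le_right) (sup_le hcomm (inf_le_left.trans (hWc.trans (centralizer_le inf_le_left))))
      exact Fusion.isMulCommutative_of_forall fun x hx y hy =>
        mem_centralizer_iff.1 (hle hy) x hx
    have key := Nat.mul_le_mul_right (Nat.card (A ⊓ W : Subgroup X)) (hA.max _ hKab)
    rw [← hinf, Thompson.card_sup_mul_card_inf_of_comm hcomm, hinf, ← hfix, hC₀] at key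
    rw [← card_map_act_mul (V := W) B₀, ← card_map_act_mul (V := W) A, hker, hmap, ← hσ] at key
    rw [← hmap, fix_act, fix_act, card_emb inf_le_left, card_emb inf_le_left, hmap]
    refine Nat.le_of_mul_le_mul_right ?_
      (Nat.card_pos (α := (A ⊓ centralizer (W : Set X) : Subgroup X)))
    linarith
  have hAr : A.map σ ≤ σ.range := map_le_range σ A
  have hoff : AbelianOffender.AbOff 2 (emb W W) (A.map σ) := by
    refine ⟨emb_ea hW, hAr.trans act_le_normalizer, (hS.to_le hA.le).map _, ?_, ?_, hbound⟩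
    · rintro _ ⟨x, hx, rfl⟩
      rw [mem_centralizer_iff]
      rintro _ ⟨y, hy, rfl⟩
      rw [← map_mul, ← map_mul, mem_centralizer_iff.1 (hAc hx) y hy]
    · rw [eq_bot_iff]
      rintro x ⟨hx, hc⟩
      obtain ⟨g, rfl⟩ := hAr hx
      refine mem_bot.2 (MonoidHom.mem_ker.1 ?_)
      rw [hσ, act_ker, mem_centralizer_iff]
      intro v hv
      have h1 := mem_centralizer_iff.1 hc _ (inl_mem_emb (v := ⟨v, hv⟩).2 hv)
      have h2 := act_conj g ⟨v, hv⟩
      rw [← hσ, ← h1, mul_inv_cancel_right] at h2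
      exact (mul_inv_eq_iff_eq_mul.1
        (congrArg Subtype.val (SemidirectProduct.inl_injective h2)).symm).symm
  exact AbelianOffender.offender_of_ff hoff (ff_offenderJoin hW hO)
    (hAr.trans range_le_normalizer_offenderJoin) fun B hB hBo =>
      le_iSup_of_le (⟨B, hB.trans hAr, hBo⟩ : {A : Subgroup (Hol W) // A ≤ (act W).range ∧
        Cfsg.IsBestOffenderOn 2 (emb W W) A}) le_rfl

end Action

end Cfsg.Agent.AbelianFactor
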